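import Groth.Agent.Lib.TorBC25.Gen
import Groth.Agent.Lib.FunMor20.BCProj
import Groth.Agent.Lib.Cohom.PushDerived
import Groth.Agent.Lib.BCCoh.Flat
import Groth.Agent.Lib.Seesaw26.Functions
import Groth.Agent.Lib.AmpSpread10.InvModel
import Groth.Agent.Lib.OX.ClosedPush

/-! # Base change for direct images from affine schemes -/

set_option autoImplicit false
set_option maxHeartbeats 1000000
set_option linter.style.haveILetI false
universe u

open CategoryTheory CategoryTheory.Limits AlgebraicGeometry
open Scheme.Modules (pushforward pushforwardComp)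

attribute [local instance] HasDerivedCategory.standard

namespace GrothLib.TorBC25

open GrothLib.OX

variable {X Y V S : Scheme.{u}} (n : ℤ)

/-- Flatness passes along isomorphisms. -/
theorem isFlat_iso {M N : X.Modules} (e : M ≅ N) (h : FlatMod.IsFlat M) : FlatMod.IsFlat N := fun x =>
  haveI : Module.Flat (X.presheaf.stalk x) ((OX.stalk x).obj M) := h x
  (Module.Flat.of_linearEquiv ((OX.stalk x).mapIso e.symm).toLinearEquiv :
    Module.Flat (X.presheaf.stalk x) ((OX.stalk x).obj N))

/-- Direct images along affine morphisms of relatively flat modules are flat. -/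
theorem isFlat_pushforward_affine (q : V ⟶ Y) [IsAffineHom q] (N : V.Modules) [N.IsQuasicoherent]
    (hN : FlatMod.IsFlatOver q N) : FlatMod.IsFlat ((pushforward q).obj N) := by
  haveI := QCoh.isQuasicoherent_pushforward q N
  rw [AmpSpread10.isFlat_iff_isFlatOver_id]
  refine BCCoh.isFlatOver_of_flat_sections _ _ fun U W e hU hW => ?_
  let U' := q ⁻¹ᵁ U
  have e' : U' ≤ q ⁻¹ᵁ W := q.preimage_mono e
  have key := BCCoh.flat_sections q N hN (hU.preimage q) hW e'
  letI : Module Γ(Y, W) Γ(N, U') := Module.compHom _ (q.appLE W U' e').hom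
  letI : Module Γ(Y, W) Γ((pushforward q).obj N, U) :=
    Module.compHom _ ((𝟙 Y : Y ⟶ Y).appLE W U e).hom
  haveI : Module.Flat Γ(Y, W) Γ(N, U') := key
  let ι : Γ((pushforward q).obj N, U) ≃ₗ[Γ(Y, W)] Γ(N, U') :=
    { toFun := fun x => x
      invFun := fun x => x
      map_add' := fun _ _ => rfl
      map_smul' := fun r x => by
        refine (QCoh.pushforward_smul q N (((𝟙 Y : Y ⟶ Y).appLE W U e) r) x).trans ?_
        refine congrArg (fun t : Γ(V, U') => t • (show Γ(N, U') from x)) ?_
        change (((𝟙 Y : Y ⟶ Y).appLE W U e) ≫ q.app U) r = (q.appLE W U' e') r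
        rw [Scheme.Hom.app_eq_appLE, Scheme.Hom.appLE_comp_appLE]
        simp only [Category.comp_id]
        rfl
      left_inv := fun _ => rfl
      right_inv := fun _ => rfl }
  exact Module.Flat.of_linearEquiv ι

variable (f : Y ⟶ S)

theorem isIso_tau_of_iso {M N : Y.Modules} (e : M ≅ N) (h : IsIso (tau n f M)) : IsIso (tau n f N) := by
  have h1 := tau_naturality n f e.hom
  haveI : IsIso (tau n f M ≫ (RR f).map ((sD n Y).map e.hom)) := inferInstance
  exact IsIso.of_isIso_fac_left (f := (sD n S).map ((pushforward f).map e.hom)) h1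

theorem isIso_tau_pushforward [QuasiCompact f] [QuasiSeparated f] (q : V ⟶ Y) [IsAffineHom q] [IsAffineHom (q ≫ f)]
    (N : V.Modules) [N.IsQuasicoherent] : IsIso (tau n f ((pushforward q).obj N)) :=
  isIso_tau n f _ (QCoh.isQuasicoherent_pushforward q N)
    (Cohom.isZero_Rpush_of_acyclicOn f _ (Cohom.acyclicOn_pushforward q f N))

theorem isIso_tau_affine [IsAffineHom f] (M : Y.Modules) [M.IsQuasicoherent] : IsIso (tau n f M) :=
  isIso_tau n f M ‹_› (Cohom.isZero_Rpush_of_acyclicOn f _ (Cohom.acyclicOn_of_isAffineHom f M))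

variable {f}
variable {X' S' : Scheme.{u}} {p : X ⟶ S} {g : S' ⟶ S} {p' : X' ⟶ S'} {g' : X' ⟶ X}
  (h : IsPullback g' p' p g)

/-- The comparison of a module does not depend on the module up to isomorphism. -/
theorem isIso_lam_of_iso (g : X' ⟶ X) [DCoh.HasLpull g] {M N : X.Modules} (e : M ≅ N) (h : IsIso (lam n g M)) :
    IsIso (lam n g N) := by
  have h1 : (DCoh.Lpull g).map ((sD n X).map e.hom) ≫ lam n g N =
      lam n g M ≫ (sD n X').map ((Scheme.Modules.pullback g).map e.hom) := by
    let c := (DCoh.pullKh g).totalLeftDerivedCounit DerivedCategory.Qh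
      (HomotopyCategory.quasiIso X.Modules (ComplexShape.up ℤ))
    have h2 : (DCoh.Lpull g).map ((sD n X).map e.hom) ≫ c.app ((sK n X).obj N) =
        c.app ((sK n X).obj M) ≫ (DCoh.pullKh g).map ((sK n X).map e.hom) := c.naturality ((sK n X).map e.hom)
    have h3 : (DCoh.pullKh g).map ((sK n X).map e.hom) ≫
        (qD X').map ((HomologicalComplex.singleMapHomologicalComplex (Scheme.Modules.pullback g) (ComplexShape.up ℤ) n).app N).hom =
        (qD X').map ((HomologicalComplex.singleMapHomologicalComplex (Scheme.Modules.pullback g) (ComplexShape.up ℤ) n).app M).hom ≫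
          (sD n X').map ((Scheme.Modules.pullback g).map e.hom) :=
      ((qD X').map_comp _ _).symm.trans ((congrArg (qD X').map ((HomologicalComplex.singleMapHomologicalComplex
        (Scheme.Modules.pullback g) (ComplexShape.up ℤ) n).hom.naturality e.hom)).trans ((qD X').map_comp _ _))
    rw [lam, lam, ← Category.assoc, h2, Category.assoc, Category.assoc]
    exact congrArg (_ ≫ ·) h3
  haveI : IsIso ((DCoh.Lpull g).map ((sD n X).map e.hom) ≫ lam n g N) := by rw [h1]; infer_instance
  exact IsIso.of_isIso_comp_left ((DCoh.Lpull g).map ((sD n X).map e.hom)) _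

/-- Base change holds for the direct image of a structure sheaf of an open affine over the base, given
acyclicity. -/
theorem isIso_theta_pushforward_of_lam [DCoh.HasLpull g] [DCoh.HasLpull g'] (adjg : DCoh.Lpull g ⊣ RR g)
    (adjg' : DCoh.Lpull g' ⊣ RR g') [QuasiCompact p] [QuasiSeparated p] [IsAffineHom g]
    (j : V ⟶ X) [IsAffineHom j] [Flat j] [IsAffineHom (j ≫ p)]
    (hlam : IsIso (lam n g ((pushforward (j ≫ p)).obj (Coh.structureModule V)))) :
    IsIso (theta h adjg adjg' ((sD n X).obj ((pushforward j).obj (Coh.structureModule V)))) := by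
  let O := Coh.structureModule V
  haveI : O.IsQuasicoherent := WeakAss.isQuasicoherent_structureModule
  haveI := QCoh.isQuasicoherent_pushforward j O
  let M := (pushforward j).obj O
  let V' := Limits.pullback j g'
  let gV : V' ⟶ V := Limits.pullback.fst j g'
  let j' : V' ⟶ X' := Limits.pullback.snd j g'
  have h' : IsPullback gV j' j g' := IsPullback.of_hasPullback j g'
  have h'' : IsPullback gV (j' ≫ p') (j ≫ p) g := h'.paste_vert h
  haveI : IsAffineHom g' := MorphismProperty.of_isPullback h.flip ‹IsAffineHom g›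
  haveI : IsAffineHom j' := MorphismProperty.of_isPullback h' ‹IsAffineHom j›
  haveI : IsAffineHom (j' ≫ p') := MorphismProperty.of_isPullback h'' ‹IsAffineHom (j ≫ p)›
  haveI : QuasiCompact p' := MorphismProperty.of_isPullback h ‹QuasiCompact p›
  haveI : QuasiSeparated p' := MorphismProperty.of_isPullback h ‹QuasiSeparated p›
  let O' := (Scheme.Modules.pullback gV).obj O
  haveI : O'.IsQuasicoherent := FittSheaf.isQuasicoherent_pullback gV O
  haveI := AffBC.isIso_bcMap h' O
  haveI := AffBC.isIso_bcMap h'' O
  let e' : (pushforward j').obj O' ≅ (Scheme.Modules.pullback g').obj M := (asIso (AffBC.bcMap h' O)).symm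
  haveI : ((Scheme.Modules.pullback g').obj M).IsQuasicoherent := FittSheaf.isQuasicoherent_pullback g' M
  have hl : IsIso (lam n g ((pushforward p).obj M)) := isIso_lam_of_iso n g ((pushforwardComp j p).app O).symm hlam
  haveI : ((pushforward p).obj M).IsQuasicoherent := QCoh.isQuasicoherent_pushforward p M
  haveI : ((Scheme.Modules.pullback g).obj ((pushforward p).obj M)).IsQuasicoherent :=
    FittSheaf.isQuasicoherent_pullback g _
  haveI : ((pushforward p').obj ((Scheme.Modules.pullback g').obj M)).IsQuasicoherent := QCoh.isQuasicoherent_pushforward p' _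
  refine isIso_theta_module n h adjg adjg' M (isIso_tau_pushforward n p j O) hl
    (isIso_lam n g' M (isFlat_pushforward_affine j O (Seesaw26.isFlatOver_structure _)))
    (isIso_tau_of_iso n p' e' (isIso_tau_pushforward n p' j' O')) (isIso_tau_affine n g' _)
    (isIso_tau_affine n g _) (isIso_tau_affine n g _) ?_
  haveI hc : IsIso ((Scheme.Modules.pullback g).map ((pushforwardComp j p).inv.app O) ≫ AffBC.bcMap h M ≫
      (pushforward p').map (AffBC.bcMap h' O) ≫ (pushforwardComp j' p').hom.app O') := by
    rw [FunMor20.bcMap_comp h h' h'' O]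
    infer_instance
  haveI hd := @IsIso.of_isIso_comp_left _ _ _ _ _ ((Scheme.Modules.pullback g).map ((pushforwardComp j p).inv.app O)) _ inferInstance hc
  exact IsIso.of_isIso_comp_right _ ((pushforward p').map (AffBC.bcMap h' O) ≫ (pushforwardComp j' p').hom.app O')

/-- Base change holds for the direct image of a structure sheaf of a scheme affine and flat over the base. -/
theorem isIso_theta_pushforward [DCoh.HasLpull g] [DCoh.HasLpull g'] (adjg : DCoh.Lpull g ⊣ RR g)
    (adjg' : DCoh.Lpull g' ⊣ RR g') [QuasiCompact p] [QuasiSeparated p] [IsAffineHom g]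
    (j : V ⟶ X) [IsAffineHom j] [Flat j] [IsAffineHom (j ≫ p)] [Flat (j ≫ p)] :
    IsIso (theta h adjg adjg' ((sD n X).obj ((pushforward j).obj (Coh.structureModule V)))) :=
  haveI : (Coh.structureModule V).IsQuasicoherent := WeakAss.isQuasicoherent_structureModule
  isIso_theta_pushforward_of_lam n h adjg adjg' j
    (isIso_lam n g _ (isFlat_pushforward_affine (j ≫ p) _ (Seesaw26.isFlatOver_structure _)))

/-- **Base change for perfect objects**, over affine bases, given acyclicity. -/
theorem good_of_isPerfect_of_lam [DCoh.HasLpull g] [DCoh.HasLpull g'] (adjg : DCoh.Lpull g ⊣ RR g)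
    (adjg' : DCoh.Lpull g' ⊣ RR g') [IsAffine S] [IsAffineHom g] [IsSeparated p] [QuasiCompact p]
    (hlam : ∀ (A : CommRingCat.{u}) (j : Spec A ⟶ X), IsOpenImmersion j → ∀ k : ℤ,
      IsIso (lam k g ((pushforward (j ≫ p)).obj (Coh.structureModule (Spec A)))))
    {E : DCoh.D X} (hE : DCoh.IsPerfect E) : Good h adjg adjg' E := by
  haveI : X.IsSeparated := ⟨by rw [← terminal.comp_from p]; infer_instance⟩
  haveI : CompactSpace X := QuasiCompact.compactSpace_of_compactSpace p
  refine prop_of_isPerfect (thick_good h adjg adjg') (fun A j hj k m => ?_) hE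
  haveI : IsAffineHom (j ≫ p) := isAffineHom_of_isAffine _
  haveI : IsAffineHom j := IsAffineHom.of_comp j p
  haveI : IsIso (tau k j (Coh.structureModule (Spec A))) :=
    haveI : (Coh.structureModule (Spec A)).IsQuasicoherent := WeakAss.isQuasicoherent_structureModule
    isIso_tau_affine k j _
  let e : ((RR j).obj ((sD k (Spec A)).obj ((genF (Spec A)).obj ⊤)))⟦m⟧ ≅
      (sD (k - m) X).obj ((pushforward j).obj (Coh.structureModule (Spec A))) :=
    (shiftFunctor _ m).mapIso ((RR j).mapIso ((sD k _).mapIso (genTopIso (Spec A))) ≪≫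
      (asIso (tau k j (Coh.structureModule (Spec A)))).symm ≪≫ (sDIso k X).symm.app _) ≪≫
    ((DerivedCategory.singleFunctors X.Modules).shiftIso m (k - m) k (by omega)).app _ ≪≫ (sDIso (k - m) X).app _
  exact (NatTrans.isIso_app_iff_of_iso (thetaNat h adjg adjg') e).2
    (isIso_theta_pushforward_of_lam (k - m) h adjg adjg' j (hlam A j hj (k - m)))

/-- **Base change for perfect objects** of flat morphisms, over affine bases. -/
theorem good_of_isPerfect [DCoh.HasLpull g] [DCoh.HasLpull g'] (adjg : DCoh.Lpull g ⊣ RR g)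
    (adjg' : DCoh.Lpull g' ⊣ RR g') [IsAffine S] [IsAffineHom g] [IsSeparated p] [QuasiCompact p] [Flat p]
    {E : DCoh.D X} (hE : DCoh.IsPerfect E) : Good h adjg adjg' E :=
  good_of_isPerfect_of_lam h adjg adjg' (fun A j _ k =>
    haveI : IsAffineHom (j ≫ p) := isAffineHom_of_isAffine _
    haveI : (Coh.structureModule (Spec A)).IsQuasicoherent := WeakAss.isQuasicoherent_structureModule
    isIso_lam k g _ (isFlat_pushforward_affine (j ≫ p) _ (Seesaw26.isFlatOver_structure _))) hE

end GrothLib.TorBC25
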