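import Groth.Agent.Lib.OX.DQCohBrown
import Mathlib.CategoryTheory.Preadditive.Yoneda.Limits
import Mathlib.CategoryTheory.Triangulated.Yoneda

/-! # Localizing classes containing the perfect objects contain all of `D_qc` -/

set_option autoImplicit false
set_option maxHeartbeats 1000000
set_option linter.style.haveILetI false
universe w v u

open CategoryTheory CategoryTheory.Limits CategoryTheory.Pretriangulated Opposite AlgebraicGeometry

namespace GrothLib.TriCatS

open GrothLib.TriCat (res res_comp res_zero exists_res_hocolim exists_isHocolim)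

variable {D : Type u} [Category.{max w v} D] [Preadditive D] [HasZeroObject D] [HasShift D ℤ]
  [∀ n : ℤ, (shiftFunctor D n).Additive] [Pretriangulated D]
  [HasCoproducts.{w} D] [HasColimitsOfShape (Discrete ℕ) D] {ι : Type w} {E : ι → D}
  [∀ k X, Small.{w} (E k ⟶ X)]

/-- A class closed under sums and cones containing a generating perfect family is everything. -/
theorem prop_of_generators (hs : IsShiftClosedFamily E) (hperf : IsPerfectFamily E)
    (h1 : ∀ X : D, (∀ k (f : E k ⟶ X), f = 0) → IsZero X) (P : D → Prop)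
    (hiso : ∀ {A B : D}, (A ≅ B) → P A → P B)
    (hE : ∀ k, P (E k)) (hsum : ∀ (J : Type w) (Z : J → D), (∀ j, P (Z j)) → P (∐ Z))
    (hcone : ∀ T ∈ distTriang D, P T.obj₁ → P T.obj₂ → P T.obj₃) (X : D) : P X := by
  let H : Dᵒᵖ ⥤ AddCommGrpCat.{max w v} := preadditiveYoneda.obj X
  have : ∀ (κ : Type w), PreservesLimitsOfShape (Discrete κ) H := fun κ =>
    preservesLimitsOfShape_of_equiv (Discrete.equivalence Equiv.ulift.{max w v, w}) _
  haveI : ∀ k, Small.{w} (H.obj (op (E k))) := fun k => inferInstanceAs (Small.{w} (E k ⟶ X))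
  have := preservesLimitsOfShape_nat H
  let W : (Σ k, Shrink.{w} (E k ⟶ X)) → D := fun p => E p.1
  let x₀ : H.obj (op (∐ W)) := (Sigma.desc fun p : Σ k, Shrink.{w} (E k ⟶ X) => (equivShrink _).symm p.2)
  obtain ⟨K, f, x, e, he, hx, hkill, hT⟩ := exists_killing_sequence (E := E) (H := H) (∐ W) x₀
  have hK : ∀ n, P (K n) := by
    intro n
    induction n with
    | zero => exact hiso e (hsum _ W fun p => hE _)
    | succ n ih =>
      obtain ⟨κ, a, y, z, hyz⟩ := hT n
      exact hcone _ hyz (hsum _ _ fun j => hE _) ih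
  obtain ⟨L, i, hL⟩ := exists_isHocolim K f
  obtain ⟨t, ht⟩ := exists_res_hocolim (A := H) hL x hx
  have hPL : P L := by
    obtain ⟨c, hc⟩ := hL
    let K' : ULift.{w} ℕ → D := fun n => K n.down
    let e' : (∐ K') ≅ ∐ K :=
      { hom := Sigma.desc fun n => Sigma.ι K n.down
        inv := Sigma.desc fun n => Sigma.ι K' ⟨n⟩
        hom_inv_id := Sigma.hom_ext _ _ fun n => by simp
        inv_hom_id := Sigma.hom_ext _ _ fun n => by simp [K'] }
    have hsumK : P (∐ K) := hiso e' (hsum _ K' fun n => hK n.down)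
    exact hcone _ hc hsumK hsumK
  have hb : ∀ k, Function.Bijective (fun a : E k ⟶ L => res H a t) :=
    bijective_res_hocolim hs hperf x hx (fun k y => ⟨Sigma.ι W ⟨k, equivShrink _ y⟩ ≫ e.hom, by
      rw [res_comp, he]
      exact (Sigma.ι_desc _ _).trans ((equivShrink _).symm_apply_apply y)⟩) hkill hL t ht
  have hiso' : IsIso (show L ⟶ X from t) := isIso_of_bijective_on_family hs h1 _
    (fun k a ha => (hb k).1 (show a ≫ (show L ⟶ X from t) = (0 : E k ⟶ L) ≫ _ by rw [ha, zero_comp]))
    (fun k b => (hb k).2 b)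
  exact hiso (@asIso _ _ _ _ _ hiso') hPL

end GrothLib.TriCatS

namespace GrothLib.OX

universe z

attribute [local instance] HasDerivedCategory.standard

/-- **Localizing classes containing the perfect objects contain all of `D_qc`.** -/
theorem prop_of_localizing {X : Scheme.{z}} [CompactSpace X] [QuasiSeparatedSpace X] {P : DCoh.D X → Prop}
    (hP : TriCat.Thick P) (hperf : ∀ K : DCoh.D X, DCoh.IsPerfect K → P K)
    (hsum : ∀ (J : Type z) (Z : J → DCoh.D X) [HasCoproduct Z], (∀ j, DCoh.IsQCohD (Z j)) → (∀ j, P (Z j)) → P (∐ Z))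
    {K : DCoh.D X} (hK : DCoh.IsQCohD K) : P K := by
  obtain ⟨E, hs, hpf, h1, hE⟩ := exists_perfectFamily (X := X)
  let ι' := (DCoh.IsQCohD (X := X)).ι
  refine TriCatS.prop_of_generators.{z, z + 1} hs hpf h1 (fun A : DCoh.DQCoh X => P (ι'.obj A))
    (fun e h => hP.of_iso (ι'.mapIso e) h) (fun k => hperf _ (hE k)) (fun J Z hZ => ?_)
    (fun T hT h₁ h₂ => hP.cone _ (ι'.map_distinguished T hT) h₁ h₂) ⟨K, hK⟩
  have := preservesColimitOfShape_of_createsColimitsOfShape_and_hasColimitsOfShape
    (F := (DCoh.IsQCohD (X := X)).ι) (J := Discrete J)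
  exact hP.of_iso (PreservesCoproduct.iso ι' Z).symm (hsum J _ (fun j => (Z j).property) hZ)

end GrothLib.OX
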