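import Groth.Agent.Lib.TorBC25.ThA
import Groth.Agent.Lib.TorBC25.Affine
import Groth.Agent.Lib.TorBC25.Localizing
import Groth.Agent.Lib.OX.RpushCoprod
import Groth.Agent.Lib.OX.QCohPull
import Groth.Agent.Lib.OX.MVTriangle
import Groth.Agent.Lib.QCoh.LocGenCases

/-! # Base change on the quasi-coherent derived category, over affine bases -/

set_option autoImplicit false
set_option maxHeartbeats 1000000
set_option linter.style.haveILetI false
universe u

open CategoryTheory CategoryTheory.Limits CategoryTheory.Pretriangulated AlgebraicGeometry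

attribute [local instance] HasDerivedCategory.standard

namespace GrothLib.TorBC25

open GrothLib.OX

/-- Derived pullback preserves quasi-coherence. -/
theorem isQCohD_lpull {X Y : Scheme.{u}} (g : Y ⟶ X) [DCoh.HasLpull g] {K : DCoh.D X} (hq : DCoh.IsQCohD K) :
    DCoh.IsQCohD ((DCoh.Lpull g).obj K) := by
  obtain ⟨P, hP, ⟨e⟩⟩ := exists_kflat_rep K
  obtain ⟨v⟩ := lpull_value g P hP
  let c : ∀ i, P.homology i ≅ DCoh.HD K i := fun i =>
    ((DerivedCategory.homologyFunctorFactors _ i).app P).symm ≪≫ (DerivedCategory.homologyFunctor _ i).mapIso e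
  exact fun i => isQCoh_of_iso (((DerivedCategory.homologyFunctorFactors _ i).app _).symm ≪≫
    (DerivedCategory.homologyFunctor _ i).mapIso (v.symm ≪≫ (DCoh.Lpull g).mapIso e))
      (isQCoh_homology_pullCx g hP (fun j => isQCoh_of_iso (c j).symm (hq j)) i)

theorem isIso_app_shift_obj {A B C : Type*} [Category A] [Category B] [Category C] [HasShift A ℤ] [HasShift B ℤ]
    {F G : B ⥤ C} (α : F ⟶ G) (R : A ⥤ B) [R.CommShift ℤ] (E : A) (n : ℤ) (h : IsIso (α.app (R.obj (E⟦n⟧)))) :
    IsIso (α.app ((R.obj E)⟦n⟧)) :=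
  (NatTrans.isIso_app_iff_of_iso α ((R.commShiftIso n).app E)).1 h

theorem isIso_app_zero {B C : Type*} [Category B] [Category C] [HasShift B ℤ]
    {F G : B ⥤ C} (α : F ⟶ G) (E : B) (h : IsIso (α.app (E⟦(0 : ℤ)⟧))) : IsIso (α.app E) :=
  (NatTrans.isIso_app_iff_of_iso α ((shiftFunctorZero B ℤ).app E)).1 h

/-- A natural transformation invertible on the summands is invertible on a sum that both functors respect. -/
theorem isIso_app_sigma {C D : Type*} [Category C] [Category D] {F G : C ⥤ D} (α : F ⟶ G) {J : Type*}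
    (W : J → C) [HasCoproduct W] [HasCoproduct fun j => F.obj (W j)] [HasCoproduct fun j => G.obj (W j)]
    [IsIso (sigmaComparison F W)] [IsIso (sigmaComparison G W)] (hW : ∀ j, IsIso (α.app (W j))) :
    IsIso (α.app (∐ W)) := by
  have h1 : sigmaComparison F W ≫ α.app (∐ W) = Limits.Sigma.map (fun j => α.app (W j)) ≫ sigmaComparison G W :=
    Sigma.hom_ext _ _ fun j => by simp
  haveI := hW
  haveI : IsIso (Limits.Sigma.map fun j => α.app (W j)) :=     ⟨Limits.Sigma.map fun j => inv (α.app (W j)), Sigma.hom_ext _ _ fun j => by simp, Sigma.hom_ext _ _ fun j => by simp⟩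
  haveI : IsIso (sigmaComparison F W ≫ α.app (∐ W)) := by rw [h1]; infer_instance
  exact IsIso.of_isIso_comp_left (sigmaComparison F W) _

theorem sigmaComparison_comp {C D E : Type*} [Category C] [Category D] [Category E] (F : C ⥤ D) (G : D ⥤ E)
    {J : Type*} (W : J → C) [HasCoproduct W] [HasCoproduct fun j => F.obj (W j)]
    [HasCoproduct fun j => G.obj (F.obj (W j))] [HasCoproduct fun j => (F ⋙ G).obj (W j)] :
    sigmaComparison (F ⋙ G) W = sigmaComparison G (fun j => F.obj (W j)) ≫ G.map (sigmaComparison F W) :=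
  Sigma.hom_ext _ _ fun j =>
    (ι_comp_sigmaComparison (F ⋙ G) W j).trans ((Category.assoc _ _ _).symm.trans
      ((congrArg (· ≫ G.map (sigmaComparison F W)) (ι_comp_sigmaComparison G (fun j => F.obj (W j)) j)).trans
        ((G.map_comp _ _).symm.trans (congrArg G.map (ι_comp_sigmaComparison F W j))))).symm

/-- Mayer–Vietoris for a thick class. -/
theorem prop_of_mv {X : Scheme.{u}} {P : DCoh.D X → Prop} (hP : TriCat.Thick P) (U V W : X.Opens)
    (hUV : U ⊔ V = ⊤) (hW : W = U ⊓ V) (E : DCoh.D X) (hU : P ((RR U.ι).obj ((resD U.ι).obj E)))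
    (hV : P ((RR V.ι).obj ((resD V.ι).obj E))) (hW' : P ((RR W.ι).obj ((resD W.ι).obj E))) : P E := by
  obtain ⟨x, y, z, hT⟩ := exists_mvTriangle U V W hUV hW E
  exact hP.ext₁ _ hT (hP.biprod hU hV) hW'

variable {X X' S S' : Scheme.{u}} {p : X ⟶ S} {g : S' ⟶ S} {p' : X' ⟶ S'} {g' : X' ⟶ X}
  (h : IsPullback g' p' p g)

/-- Base change of sums. -/
theorem good_sigma [DCoh.HasLpull g] [DCoh.HasLpull g'] (a : DCoh.Lpull g ⊣ RR g) (a' : DCoh.Lpull g' ⊣ RR g')
    [QuasiCompact p] [QuasiSeparated p] (J : Type u) (Z : J → DCoh.D X) [HasCoproduct Z]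
    (hZ : ∀ j, DCoh.IsQCohD (Z j)) (hg : ∀ j, Good h a a' (Z j)) : Good h a a' (∐ Z) := by
  intro n
  haveI : QuasiCompact p' := MorphismProperty.of_isPullback h ‹QuasiCompact p›
  haveI : QuasiSeparated p' := MorphismProperty.of_isPullback h ‹QuasiSeparated p›
  haveI : HasColimitsOfShape (Discrete J) (DCoh.D X) := HoCat.derivedCategory_hasColimitsOfShape
  haveI : HasColimitsOfShape (Discrete J) (DCoh.D X') := HoCat.derivedCategory_hasColimitsOfShape
  haveI : HasColimitsOfShape (Discrete J) (DCoh.D S) := HoCat.derivedCategory_hasColimitsOfShape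
  haveI : HasColimitsOfShape (Discrete J) (DCoh.D S') := HoCat.derivedCategory_hasColimitsOfShape
  haveI := a.leftAdjoint_preservesColimits
  haveI := a'.leftAdjoint_preservesColimits
  let W := fun j => (Z j)⟦n⟧
  refine (NatTrans.isIso_app_iff_of_iso (thetaNat h a a') (PreservesCoproduct.iso (shiftFunctor (DCoh.D X) n) Z)).2 ?_
  have hW : ∀ j, DCoh.IsQCohD (W j) := fun j => isQCohD_shift (hZ j) n
  haveI hF : IsIso (sigmaComparison (RR p ⋙ DCoh.Lpull g) W) := by
    rw [sigmaComparison_comp]
    haveI : IsIso (sigmaComparison (RR p) W) := isIso_Rres_coprod p W hW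
    haveI : IsIso (sigmaComparison (DCoh.Lpull g) fun j => (RR p).obj (W j)) :=
      (PreservesCoproduct.iso (DCoh.Lpull g) fun j => (RR p).obj (W j)).isIso_inv
    infer_instance
  haveI hG : IsIso (sigmaComparison (DCoh.Lpull g' ⋙ RR p') W) := by
    rw [sigmaComparison_comp]
    haveI : IsIso (sigmaComparison (RR p') fun j => (DCoh.Lpull g').obj (W j)) :=
      isIso_Rres_coprod p' _ fun j => isQCohD_lpull g' (hW j)
    haveI : IsIso (sigmaComparison (DCoh.Lpull g') W) :=
      (PreservesCoproduct.iso (DCoh.Lpull g') W).isIso_inv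
    infer_instance
  exact isIso_app_sigma (thetaNat h a a') W fun j => hg j n

theorem isIso_theta_iff_thA [DCoh.HasLpull g] [DCoh.HasLpull g'] (a : DCoh.Lpull g ⊣ RR g)
    (a' : DCoh.Lpull g' ⊣ RR g') (E : DCoh.D X) : IsIso ((thetaNat h a a').app E) ↔ IsIso (thA h a a' E) := by
  unfold thetaNat theta thA
  exact Iff.rfl

/-- Base change at direct images from opens. -/
theorem good_RR_of_BC [DCoh.HasLpull g] [DCoh.HasLpull g'] (a : DCoh.Lpull g ⊣ RR g)
    (a' : DCoh.Lpull g' ⊣ RR g') {V V' : Scheme.{u}} {j : V ⟶ X} {j' : V' ⟶ X'} {g'' : V' ⟶ V}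
    (h₀ : IsPullback g'' j' j g') (hj : BC h₀) (hjf : BC (h₀.paste_vert h)) {E : DCoh.D V}
    (hE : DCoh.IsQCohD E) : Good h a a' ((RR j).obj E) := by
  intro n
  have hi : IsIso ((thetaNat h a a').app ((RR j).obj (E⟦n⟧))) :=
    (isIso_theta_iff_thA h a a' _).2 (isIso_thA_RR h a a' h₀ hj hjf (isQCohD_shift hE n))
  exact isIso_app_shift_obj (thetaNat h a a') (RR j) E n hi

/-- The hypothesis: direct images of structure sheaves of affine opens are acyclic for `g`. -/
def HLam (p : X ⟶ S) (g : S' ⟶ S) : Prop :=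
  ∀ [DCoh.HasLpull g] (A : CommRingCat.{u}) (j : Spec A ⟶ X), IsOpenImmersion j → ∀ k : ℤ,
    IsIso (lam k g ((Scheme.Modules.pushforward (j ≫ p)).obj (Coh.structureModule (Spec A))))

/-- Separated morphisms over affine bases. -/
theorem BC_affine_sep [IsAffine S] [IsAffineHom g] [IsSeparated p] [QuasiCompact p] (hlam : HLam p g) : BC h := by
  haveI : CompactSpace X := QuasiCompact.compactSpace_of_compactSpace p
  haveI : QuasiSeparatedSpace X := quasiSeparatedSpace_of_quasiSeparated p
  obtain ⟨_, ⟨a⟩⟩ := exists_adjRR g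
  obtain ⟨_, ⟨a'⟩⟩ := exists_adjRR g'
  refine BC.of_adj h a a' fun E hE => ?_
  have hg : Good h a a' E := prop_of_localizing (thick_good h a a')
    (fun K hK => good_of_isPerfect_of_lam h a a' (fun A j hj k => hlam A j hj k) hK)
    (fun J Z _ hZ hgZ => good_sigma h a a' J Z hZ hgZ) hE
  exact (isIso_theta_iff_thA h a a' E).1
    (isIso_app_zero (thetaNat h a a') E (hg 0))

theorem hlam_of_flat [IsAffine S] [Flat p] : HLam p g := fun A j _ k =>
  haveI : IsAffineHom (j ≫ p) := isAffineHom_of_isAffine _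
  haveI : (Coh.structureModule (Spec A)).IsQuasicoherent := WeakAss.isQuasicoherent_structureModule
  isIso_lam k g _ (isFlat_pushforward_affine (j ≫ p) _ (Seesaw26.isFlatOver_structure _))

/-- Affine charts of a morphism at a point. -/
theorem exists_affine_chart (g : S' ⟶ S) (y : S') :
    ∃ (U : S.Opens) (hU : IsAffineOpen U) (U' : S'.Opens) (hU' : IsAffineOpen U') (e : U' ≤ g ⁻¹ᵁ U),
      y ∈ U' ∧ Spec.map (g.appLE U U' e) ≫ hU.fromSpec = hU'.fromSpec ≫ g := by
  obtain ⟨U, hU, hy, -⟩ := exists_isAffineOpen_mem_and_subset (x := g y) (U := ⊤) trivial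
  obtain ⟨U', hU', hy', hle⟩ := exists_isAffineOpen_mem_and_subset (x := y) (U := g ⁻¹ᵁ U) hy
  exact ⟨U, hU, U', hU', hle, hy', hU.SpecMap_appLE_fromSpec g hU' hle⟩

/-- Base change along a quasi-compact open immersion. -/
theorem BC_qc_open [IsOpenImmersion p] [QuasiCompact p] : BC h := by
  refine BC_of_local h fun y => ?_
  obtain ⟨U, hU, U', hU', e, hy, hw⟩ := exists_affine_chart g y
  refine ⟨_, _, hU.fromSpec, hU'.fromSpec, Spec.map (g.appLE U U' e), inferInstance, inferInstance, ?_, hw, ?_⟩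
  · rw [hU'.range_fromSpec]; exact hy
  haveI : IsOpenImmersion (pullback.snd p hU.fromSpec) := inferInstance
  exact BC_affine_sep _ hlam_of_flat

theorem BC_affine_cover [IsAffine S] [IsAffineHom g] : ∀ (m : ℕ) {X X' : Scheme.{u}} {p : X ⟶ S} {p' : X' ⟶ S'}
    {g' : X' ⟶ X} (h : IsPullback g' p' p g) [QuasiCompact p] [QuasiSeparated p] (c : Fin m → X.Opens),
    (∀ i, IsAffineOpen (c i)) → (⨆ i, c i) = ⊤ → HLam p g → BC h
  | 0, X, _, p, _, _, h, _, _, c, _, hc, hlam => by
    have : IsEmpty X := ⟨fun x => by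
      have hx : x ∈ ((⊤ : X.Opens) : Set X) := trivial
      rw [← hc, iSup_of_empty] at hx
      exact hx⟩
    haveI : IsAffineHom p := isAffineHom_of_isAffine p
    exact BC_affine_sep h hlam
  | m + 1, X, X', p, p', g', h, _, _, c, hA, hc, hlam => by
    haveI : CompactSpace X := QuasiCompact.compactSpace_of_compactSpace p
    haveI : QuasiSeparatedSpace X := quasiSeparatedSpace_of_quasiSeparated p
    obtain ⟨_, ⟨a⟩⟩ := exists_adjRR g
    obtain ⟨_, ⟨a'⟩⟩ := exists_adjRR g'
    refine BC.of_adj h a a' fun E hE => ?_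
    let B : X.Opens := ⨆ i : Fin m, c i.succ
    let W : X.Opens := c 0 ⊓ B
    have hcov : c 0 ⊔ B = ⊤ := by
      rw [eq_top_iff, ← hc]
      refine iSup_le fun i => ?_
      cases i using Fin.cases with
      | zero => exact le_sup_left
      | succ i => exact le_sup_of_le_right (le_iSup (fun i : Fin m => c i.succ) i)
    have hBc : IsCompact (B : Set X) := by
      rw [TopologicalSpace.Opens.coe_iSup]
      exact isCompact_iUnion fun i => (hA i.succ).isCompact
    have hWc : IsCompact (W : Set X) := by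
      rw [TopologicalSpace.Opens.coe_inf]
      exact QuasiSeparatedSpace.inter_isCompact _ _ (c 0).isOpen (hA 0).isCompact B.isOpen hBc
    have key : ∀ O : X.Opens, IsCompact (O : Set X) →
        (∀ [QuasiCompact O.ι], BC ((IsPullback.of_hasPullback O.ι g').paste_vert h)) →
        Good h a a' ((RR O.ι).obj ((resD O.ι).obj E)) := by
      intro O hO hbc
      haveI : QuasiCompact O.ι := QCoh.quasiCompact_ι_of_forall O fun V hV => by
        rw [TopologicalSpace.Opens.coe_inf]
        exact QuasiSeparatedSpace.inter_isCompact _ _ V.isOpen hV.isCompact O.isOpen hO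
      exact good_RR_of_BC h a a' (IsPullback.of_hasPullback O.ι g') (BC_qc_open _) hbc (isQCohD_resD O.ι hE)
    have hl : ∀ O : X.Opens, HLam (O.ι ≫ p) g := fun O => by
      intro _ A j hj k
      rw [← Category.assoc]
      exact hlam A (j ≫ O.ι) inferInstance k
    have hP := thick_good h a a'
    have hg : Good h a a' E := by
      refine prop_of_mv hP (c 0) B W hcov rfl E (key _ (hA 0).isCompact ?_) (key _ hBc ?_) (key _ hWc ?_)
      · intro _
        haveI : IsAffine (c 0 : Scheme.{u}) := hA 0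
        haveI : IsAffineHom ((c 0).ι ≫ p) := isAffineHom_of_isAffine _
        exact BC_affine_sep _ (hl _)
      · intro _
        refine BC_affine_cover m _ (fun i => B.ι ⁻¹ᵁ c i.succ) (fun i => ?_) ?_ (hl _)
        · exact (hA i.succ).preimage_of_isOpenImmersion B.ι ((le_iSup (fun i : Fin m => c i.succ) i).trans_eq B.opensRange_ι.symm)
        · rw [← Scheme.Hom.preimage_iSup, Scheme.Opens.ι_preimage_self]
      · intro _
        haveI : IsAffine (c 0 : Scheme.{u}) := hA 0
        haveI : IsAffineHom ((c 0).ι ≫ p) := isAffineHom_of_isAffine _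
        haveI : IsSeparated (W.ι ≫ p) := by
          rw [← X.homOfLE_ι (inf_le_left : W ≤ c 0), Category.assoc]
          infer_instance
        exact BC_affine_sep _ (hl _)
    exact (isIso_theta_iff_thA h a a' E).1
      (isIso_app_zero (thetaNat h a a') E (hg 0))

/-- **Base change over affine bases.** -/
theorem BC_affine [IsAffine S] [IsAffineHom g] [QuasiCompact p] [QuasiSeparated p] (hlam : HLam p g) : BC h := by
  haveI : CompactSpace X := QuasiCompact.compactSpace_of_compactSpace p
  let c := X.affineCover.finiteSubcover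
  let e := (Fintype.equivFin c.I₀).symm
  refine BC_affine_cover _ h (fun i => (c.f (e i)).opensRange) (fun i => isAffineOpen_opensRange _) ?_ hlam
  rw [show (⨆ i, (c.f (e i)).opensRange) = ⨆ k, (c.f k).opensRange from e.iSup_comp (g := fun k => (c.f k).opensRange)]
  exact c.iSup_opensRange

end GrothLib.TorBC25
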