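import Groth.Agent.Lib.TorBC25.RelPerfect
import Groth.Agent.Lib.OX.TildeBaseChange
import Groth.Agent.Lib.OX.OneDegLocus
import Groth.Agent.Lib.OX.TorAmp
import Groth.Agent.Lib.OX.RHomDual
import Groth.Agent.S6974
import Groth.Agent.S6976
import Groth.Agent.S6990

/-! # The direct image of the structure sheaf splits -/

set_option autoImplicit false
set_option maxHeartbeats 1000000
set_option linter.style.haveILetI false
universe u

open CategoryTheory CategoryTheory.Limits CategoryTheory.Pretriangulated AlgebraicGeometry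

attribute [local instance] HasDerivedCategory.standard

namespace GrothLib.TorBC25

open GrothLib.OX

/-- `D(O)` of the structure sheaf is tilde of the ring. -/
noncomputable def tildeUnitD (A : Type u) [CommRing A] :
    (DCoh.tildeD (CommRingCat.of A)).obj (Dual.inD A A) ≅
      DCoh.inD (Spec (CommRingCat.of A)) (Coh.structureModule (Spec (CommRingCat.of A))) :=
  ((tilde.functor (CommRingCat.of A)).mapDerivedCategorySingleFunctor 0).app _ ≪≫
    (DerivedCategory.singleFunctor _ 0).mapIso tildeSelf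

theorem isPerfect_inD_structure (X : Scheme.{u}) : DCoh.IsPerfect (DCoh.inD X (Coh.structureModule X)) := by
  refine isPerfect_iff.2 fun x => ⟨_, (⊤ : X.Opens).ι, inferInstance, ⟨⟨x, trivial⟩, rfl⟩,
    Strict.restrict ⟨singleCx 0 (Coh.structureModule X),
    strictlyPerfect_single 0 (OX.isFinLocFree_structureModule X),
    ⟨((DerivedCategory.singleFunctorIsoCompQ X.Modules 0).app _).symm⟩⟩ _⟩

/-- Derived pullback of the structure sheaf. -/
theorem nonempty_lpull_structure {X Y : Scheme.{u}} (f : X ⟶ Y) [DCoh.HasLpull f] :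
    Nonempty ((DCoh.Lpull f).obj (DCoh.inD Y (Coh.structureModule Y)) ≅ DCoh.inD X (Coh.structureModule X)) := by
  have h := isIso_lam 0 f (Coh.structureModule Y) (flat_structureModule Y)
  exact ⟨(DCoh.Lpull f).mapIso ((sDIso 0 Y).app _) ≪≫ @asIso _ _ _ _ (lam 0 f _) h ≪≫
    (sD 0 X).mapIso (pullUnitIso f) ≪≫ ((sDIso 0 X).app _).symm⟩

variable {A : Type u} [CommRing A] {X : Scheme.{u}} (f : X ⟶ Spec (CommRingCat.of A))

/-- A nonzero map of the structure sheaf of a field into `H⁰` of a direct image with functions `= κ`. -/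
theorem isIso_of_ne_zero {B : Type u} [CommRing B] (hB : IsField B)
    {N : (Spec (CommRingCat.of B)).Modules} (e : N ≅ Coh.structureModule (Spec (CommRingCat.of B)))
    (v : (genF (Spec (CommRingCat.of B))).obj ⊤ ⟶ N) (hv : v ≠ 0) : IsIso v := by
  let T := Spec (CommRingCat.of B)
  let t : (genF T).obj ⊤ ≅ (tilde.functor (CommRingCat.of B)).obj (ModuleCat.of B B) := tildeGenIso _
  let w : (tilde.functor (CommRingCat.of B)).obj (ModuleCat.of B B) ⟶
      (tilde.functor (CommRingCat.of B)).obj (ModuleCat.of B B) := t.inv ≫ v ≫ e.hom ≫ tildeSelf.inv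
  have hvw : v = t.hom ≫ w ≫ tildeSelf.hom ≫ e.inv := by simp [w]
  have hw : w ≠ 0 := fun h => hv (by rw [hvw, h, zero_comp, comp_zero])
  obtain ⟨a, ha⟩ : ∃ a : ModuleCat.of B B ⟶ ModuleCat.of B B, (tilde.functor (CommRingCat.of B)).map a = w :=
    ⟨tilde.fullyFaithfulFunctor.preimage w, tilde.fullyFaithfulFunctor.map_preimage w⟩
  have h1 : a.hom (1 : B) ≠ 0 := fun h => hw (by
    rw [← ha, show a = 0 from ModuleCat.hom_ext (LinearMap.ext_ring h), Functor.map_zero])
  obtain ⟨c, hc⟩ := hB.mul_inv_cancel h1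
  haveI : IsIso a := ⟨ModuleCat.ofHom (LinearMap.toSpanSingleton B B c), by
      ext; simpa [mul_comm] using hc, by
      refine ModuleCat.hom_ext (LinearMap.ext_ring ?_)
      show a.hom (((1 : B) • c : B)) = 1
      rw [one_smul, show c = c • (1 : B) by simp, map_smul, smul_eq_mul, mul_comm]
      exact hc⟩
  haveI : IsIso w := ha ▸ inferInstance
  rw [hvw]; infer_instance

/-- The fibre of the cone of the unit has cohomology in positive degrees only. -/
theorem isZero_HD_fibre [IsProper f] [Flat f] [DCoh.HasLpull f] (af : DCoh.Lpull f ⊣ RR f)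
    {B : Type u} [CommRing B] (φ : A →+* B) (hB : IsField B) [DCoh.HasLpull (specHom φ)]
    (hfib : IsIso (pullback.snd f (specHom φ)).appTop)
    {P : DCoh.D (Spec (CommRingCat.of A))} {p : _ ⟶ P} {d : P ⟶ _}
    (hT : Triangle.mk (af.unit.app (DCoh.inD _ (Coh.structureModule (Spec (CommRingCat.of A))))) p d ∈ distTriang _)
    (i : ℤ) (hi : i ≤ 0) : IsZero (DCoh.HD ((DCoh.Lpull (specHom φ)).obj P) i) := by
  let g := specHom φ
  let T := Spec (CommRingCat.of B)
  let O := DCoh.inD (Spec (CommRingCat.of A)) (Coh.structureModule _)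
  let u : O ⟶ (RR f).obj ((DCoh.Lpull f).obj O) := af.unit.app O
  let E := (DCoh.Lpull f).obj O
  have hsq := IsPullback.of_hasPullback f g
  let q := pullback.fst f g
  let f' := pullback.snd f g
  haveI : IsAffineHom g := isAffineHom_of_isAffine g
  haveI := hasLpull q
  haveI : DCoh.HasRpush g := KInj.hasRightDerivedFunctor _
  haveI : DCoh.HasRpush q := KInj.hasRightDerivedFunctor _
  obtain ⟨a⟩ := nonempty_lpullAdj g
  obtain ⟨a'⟩ := nonempty_lpullAdj q
  let adjg : DCoh.Lpull g ⊣ RR g := a.ofNatIsoRight (rpushIsoRres g)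
  let adjg' : DCoh.Lpull q ⊣ RR q := a'.ofNatIsoRight (rpushIsoRres q)
  have hE : DCoh.IsPerfect E := isPerfect_lpull f (isPerfect_inD_structure _)
  haveI : IsIso (theta hsq adjg adjg' E) := (NatTrans.isIso_app_iff_of_iso (thetaNat hsq adjg adjg')
    ((shiftFunctorZero (DCoh.D X) ℤ).app E)).1 (good_of_isPerfect hsq adjg adjg' hE 0)
  let R := (RR f').obj ((DCoh.Lpull q).obj E)
  -- the fibre is nonempty
  haveI : Nontrivial Γ(T, ⊤) := by
    haveI : Nontrivial B := hB.nontrivial
    exact (ConcreteCategory.bijective_of_isIso (Scheme.ΓSpecIso (CommRingCat.of B)).inv).1.nontrivial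
  have hfb : Function.Bijective f'.appTop := ConcreteCategory.bijective_of_isIso f'.appTop
  obtain ⟨eE⟩ := nonempty_lpull_structure f
  obtain ⟨eq⟩ := nonempty_lpull_structure q
  let eR : (DCoh.Lpull q).obj E ≅ DCoh.inD (Limits.pullback f g) (Coh.structureModule _) :=
    (DCoh.Lpull q).mapIso eE ≪≫ eq
  have hOne : ¬ IsZero ((DCoh.Lpull q).obj E) := fun h => by
    have h0 := ((DerivedCategory.homologyFunctor _ 0).map_isZero (h.of_iso eR.symm)).of_iso
      ((DerivedCategory.singleFunctorCompHomologyFunctorIso _ 0).app _).symm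
    have hs : Subsingleton Γ(Coh.structureModule (Limits.pullback f g), ⊤) :=
      AddCommGrpCat.subsingleton_of_isZero (((evaluation _ _).obj (Opposite.op ⊤)).map_isZero
        ((Scheme.Modules.toPresheaf _).map_isZero h0))
    exact zero_ne_one (α := Γ(T, ⊤)) (hfb.1 (@Subsingleton.elim Γ(Limits.pullback f g, ⊤) hs _ _))
  -- the unit stays nonzero
  have hv : (DCoh.Lpull g).map u ≫ theta hsq adjg adjg' E ≠ 0 := fun h => by
    haveI : (RR g).Additive := inferInstance
    haveI : (RR f).Additive := inferInstance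
    haveI : (RR q).Additive := inferInstance
    haveI : (DCoh.Lpull g).Additive := adjg.left_adjoint_additive
    haveI : (DCoh.Lpull q).Additive := adjg'.left_adjoint_additive
    haveI : (DCoh.Lpull f).Additive := af.left_adjoint_additive
    have h1 : u ≫ (RR f).map (adjg'.unit.app E) ≫ (RRSquareIso hsq).hom.app ((DCoh.Lpull q).obj E) = 0 := by
      refine (adjg.homEquiv _ _).symm.injective ?_
      rw [Adjunction.homEquiv_naturality_left_symm, adjg.homEquiv_counit O _ 0, Functor.map_zero, zero_comp]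
      exact h
    have h2 : u ≫ (RR f).map (adjg'.unit.app E) = 0 := by
      rw [← cancel_mono ((RRSquareIso hsq).hom.app ((DCoh.Lpull q).obj E)), Category.assoc, h1, zero_comp]
    have h3 : adjg'.unit.app E = 0 := (af.homEquiv _ _).injective (by
      rw [Adjunction.homEquiv_unit, Adjunction.homEquiv_unit, Functor.map_zero, comp_zero]
      exact h2)
    refine hOne ((IsZero.iff_id_eq_zero _).2 ((adjg'.homEquiv _ _).injective ?_))
    rw [Adjunction.homEquiv_id, h3, Adjunction.homEquiv_unit, Functor.map_zero, comp_zero]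
  -- the target in degrees `≤ 0`
  have hq0 : DerivedCategory.IsGE ((DCoh.Lpull q).obj E) 0 := DerivedCategory.TStructure.t.isGE_of_iso eR.symm 0
  haveI hR : DerivedCategory.IsGE R 0 := by
    have h := fun (E' : DerivedCategory (ModSite.Mod (Limits.pullback f g).sheaf)) (hE' : E'.IsGE 0) =>
      (letI := hE'; SiteDer.isGE_Rres (rmor f') E' 0)
    exact h _ hq0
  haveI : HasInjectiveResolutions (Limits.pullback f g).Modules := inferInstance
  obtain ⟨eH⟩ := SiteDer.nonempty_homology_Rres_single (rmor f') (Coh.structureModule (Limits.pullback f g)) 0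
  haveI : (Scheme.Modules.pushforward f').IsRightAdjoint :=
    (Scheme.Modules.pullbackPushforwardAdjunction f').isRightAdjoint
  have hu : IsIso (ClSub.unitToPush f') := by
    haveI : QuasiCompact f' := inferInstance
    refine isIso_of_bijective_qcoh (Cohom.isQuasicoherent_structureModule _)
      (@QCoh.isQuasicoherent_pushforward _ _ f' inferInstance inferInstance _
        (Cohom.isQuasicoherent_structureModule _)) _ ?_
    refine (Function.Bijective.of_comp_iff' (tildeSec _).bijective _).1 ?_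
    have : (fun a => tildeSec _ (a ≫ ClSub.unitToPush f')) =
        (fun s => (ClSub.unitToPush f').app ⊤ s) ∘ tildeSec (Coh.structureModule T) :=
      funext fun a => tildeSec_comp a _
    refine (congrArg Function.Bijective this).mpr (Function.Bijective.comp ?_ (tildeSec _).bijective)
    exact hfb
  let eN : DCoh.HD R 0 ≅ Coh.structureModule T :=
    (DerivedCategory.homologyFunctor _ 0).mapIso ((RR f').mapIso eR) ≪≫ eH ≪≫
      (Scheme.Modules.pushforward f').rightDerivedZeroIsoSelf.app _ ≪≫ (asIso (ClSub.unitToPush f')).symm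
  -- the map in degree zero
  obtain ⟨eO⟩ := nonempty_lpull_structure g
  let v : DCoh.inD T (Coh.structureModule T) ⟶ R := eO.inv ≫ (DCoh.Lpull g).map u ≫ theta hsq adjg adjg' E
  let γ : (DerivedCategory.singleFunctor T.Modules 0).obj ((genF T).obj ⊤) ⟶ R := (DerivedCategory.singleFunctor _ 0).map (genTopIso T).hom ≫ v
  have hγ : γ ≠ 0 := fun h => hv (by simpa [γ, v] using h)
  have hθ := DerTheta.thetaBij_of_isGE ((genF T).obj ⊤) 0 R
  have hne : SiteDer.theta (A := T.Modules) (j := 0) γ ≠ 0 := fun h => hγ (hθ.1 (h.trans SiteDer.theta_zero.symm))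
  haveI hiso0 : IsIso (SiteDer.theta (A := T.Modules) (j := 0) γ) := isIso_of_ne_zero hB eN _ hne
  have hH : IsIso ((DerivedCategory.homologyFunctor _ 0).map v) := by
    have : IsIso ((DerivedCategory.homologyFunctor _ 0).map γ) := by
      let κ := (DerivedCategory.singleFunctorCompHomologyFunctorIso T.Modules 0).app ((genF T).obj ⊤)
      have e : (DerivedCategory.homologyFunctor _ 0).map γ = κ.hom ≫ SiteDer.theta (A := T.Modules) (j := 0) γ :=
        (κ.hom_inv_id_assoc _).symm
      rw [e]
      exact @IsIso.comp_isIso _ _ _ _ _ _ _ κ.isIso_hom hiso0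
    refine @IsIso.of_isIso_fac_left _ _ _ _ _ ((DerivedCategory.homologyFunctor _ 0).map
      ((DerivedCategory.singleFunctor _ 0).map (genTopIso T).hom)) _ _ inferInstance this ?_
    exact ((DerivedCategory.homologyFunctor _ 0).map_comp _ _).symm
  -- conclude with the long exact sequence
  haveI : DCoh.HasRpush f := KInj.hasRightDerivedFunctor _
  letI := lpullCommShift g adjg
  haveI := isTriangulated_lpull g adjg
  let H := DerivedCategory.homologyFunctor T.Modules
  have hT' := (DCoh.Lpull g).map_distinguished _ hT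
  have hH' : IsIso ((H 0).map ((DCoh.Lpull g).map u)) := by
    have e : (DCoh.Lpull g).map u = eO.hom ≫ v ≫ inv (theta hsq adjg adjg' E) := by simp [v]
    rw [e, Functor.map_comp, Functor.map_comp]
    infer_instance
  haveI hO1 : ((DCoh.Lpull g).obj O).IsLE 0 := DerivedCategory.TStructure.t.isLE_of_iso eO.symm 0
  haveI hO2 : ((DCoh.Lpull g).obj O).IsGE 0 := DerivedCategory.TStructure.t.isGE_of_iso eO.symm 0
  haveI hK : ((DCoh.Lpull g).obj ((RR f).obj E)).IsGE 0 :=
    DerivedCategory.TStructure.t.isGE_of_iso (asIso (theta hsq adjg adjg' E)).symm 0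
  refine (DerivedCategory.HomologySequence.exact₃ _ hT' i (i + 1) rfl).isZero_of_both_zeros ?_ ?_
  · rcases lt_or_eq_of_le hi with hlt | rfl
    · exact (DerivedCategory.isZero_of_isGE ((DCoh.Lpull g).obj ((RR f).obj E)) 0 i hlt).eq_of_src _ _
    · haveI : Epi ((H 0).map ((DCoh.Lpull g).map u)) := @IsIso.epi_of_iso _ _ _ _ _ hH'
      refine (cancel_epi ((H 0).map ((DCoh.Lpull g).map u))).1 (Eq.trans ?_ comp_zero.symm)
      refine ((H 0).map_comp _ _).symm.trans ?_
      exact (congrArg (H 0).map (comp_distTriang_mor_zero₁₂ _ hT')).trans ((H 0).map_zero _ _)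
  · rcases lt_or_eq_of_le (show i + 1 ≤ 1 by omega) with hlt | he
    · rcases lt_or_eq_of_le (show i + 1 ≤ 0 by omega) with hlt' | he'
      · exact (DerivedCategory.isZero_of_isGE ((DCoh.Lpull g).obj O) 0 (i + 1) hlt').eq_of_tgt _ _
      · haveI : Mono ((H (i + 1)).map ((DCoh.Lpull g).map u)) := by
          rw [he']; exact @IsIso.mono_of_iso _ _ _ _ _ hH'
        refine (cancel_mono ((H (i + 1)).map ((DCoh.Lpull g).map u))).1 (Eq.trans ?_ zero_comp.symm)
        exact DerivedCategory.HomologySequence.δ_comp _ hT' i (i + 1) rfl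
    · exact (DerivedCategory.isZero_of_isLE ((DCoh.Lpull g).obj O) 0 (i + 1) (by omega)).eq_of_tgt _ _

/-- **Splitting off the structure sheaf**, over an affine base. -/
theorem exists_split_affine [IsProper f] [Flat f] [LocallyOfFinitePresentation f]
    (hfib : ∀ m : Ideal A, m.IsMaximal →
      IsIso (pullback.snd f (specHom (Ideal.Quotient.mk m))).appTop) :
    ∃ (P : DCoh.D (Spec (CommRingCat.of A))) (b : ℤ), DCoh.IsPerfect P ∧ DCoh.HasFlatAmplitudeIn 1 b P ∧
      Nonempty ((RR f).obj (DCoh.inD X (Coh.structureModule X)) ≅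
        DCoh.inD (Spec (CommRingCat.of A)) (Coh.structureModule (Spec (CommRingCat.of A))) ⊞ P) := by
  haveI := hasLpull f
  haveI : DCoh.HasRpush f := KInj.hasRightDerivedFunctor _
  obtain ⟨af₀⟩ := nonempty_lpullAdj f
  let af : DCoh.Lpull f ⊣ RR f := af₀.ofNatIsoRight (rpushIsoRres f)
  let S := Spec (CommRingCat.of A)
  let O := DCoh.inD S (Coh.structureModule S)
  let u : O ⟶ (RR f).obj ((DCoh.Lpull f).obj O) := af.unit.app O
  have hK : DCoh.IsPerfect ((RR f).obj ((DCoh.Lpull f).obj O)) :=
    isPerfect_RR f (isPerfect_lpull f (isPerfect_inD_structure S))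
  obtain ⟨P, p, d, hT⟩ := distinguished_cocone_triangle u
  have hP : DCoh.IsPerfect P := isPerfect_cone hT (isPerfect_inD_structure S) hK
  -- modules
  have hff := tildeD_full_faithful_essImage (R := CommRingCat.of A)
  haveI := hff.1
  haveI := hff.2.1
  let T := DCoh.tildeD (CommRingCat.of A)
  obtain ⟨M, ⟨eM⟩⟩ := hff.2.2 _ (isQCohD_of_isPerfect hK)
  let u' : Dual.inD A A ⟶ M := T.preimage ((tildeUnitD A).hom ≫ u ≫ eM.inv)
  obtain ⟨N, p', d', hT'⟩ := distinguished_cocone_triangle u'
  let eT := isoTriangleOfIso₁₂ _ _ (T.map_distinguished _ hT') hT (tildeUnitD A) eM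
    (by
      show T.map u' ≫ eM.hom = (tildeUnitD A).hom ≫ u
      rw [show T.map u' = (tildeUnitD A).hom ≫ u ≫ eM.inv from T.map_preimage _]
      simp)
  let eN : T.obj N ≅ P := Triangle.π₃.mapIso eT
  have hN : DRing.IsPerfect A N := (isPerfect_tildeD_iff (A := A) N).1 (isPerfect_of_iso hP eN.symm)
  obtain ⟨E, a₀, b₀, hv, hE, ⟨eE⟩⟩ := hN
  have hflat : DRing.TermwiseFlat E := GrothLib.DR.termwiseFlat_of_projective fun i => (hE i).2
  let b : ℤ := max 1 b₀
  haveI : ∀ m : Ideal A, DRing.HasLBaseChange (Ideal.Quotient.mk m) := fun m =>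
    (leftResolvable_baseChange (Ideal.Quotient.mk m)).hasLeftDerivedFunctor
  have hpc : DRing.IsPseudoCoherent' A N :=
    (GrothLib.DR.isPerfect_iff.1 ⟨E, a₀, b₀, hv, hE, ⟨eE⟩⟩).1
  have hamp := Groth.Agent.S6974.result A N hpc 1 b fun m hm i hi => by
    letI : Field (A ⧸ m) := Ideal.Quotient.field m
    rcases hi with hi | hi
    · haveI := hasLpull (specHom (Ideal.Quotient.mk m))
      obtain ⟨c⟩ := nonempty_bcTilde_iso (Ideal.Quotient.mk m)
      have hz := (isZero_HD_fibre f af (Ideal.Quotient.mk m) (Field.toIsField (A ⧸ m)) (hfib m hm) hT i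
        (by omega)).of_iso ((DerivedCategory.homologyFunctor _ i).mapIso
          (c.app N ≪≫ (DCoh.Lpull (specHom (Ideal.Quotient.mk m))).mapIso eN))
      let L := (DRing.LBaseChange (Ideal.Quotient.mk m)).obj N
      have h0 : IsZero ((tilde.functor (CommRingCat.of (A ⧸ m))).obj ((DerivedCategory.homologyFunctor _ i).obj L)) :=
        hz.of_iso ((DerTrunc.homologyMapIso (tilde.functor (CommRingCat.of (A ⧸ m))) i).app L).symm
      exact ModuleCat.subsingleton_of_isZero ((IsZero.iff_id_eq_zero _).2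
        (tilde.fullyFaithfulFunctor.map_injective (h0.eq_of_src _ _)))
    · obtain ⟨w⟩ := GrothLib.DR.nonempty_lBase_iso (Ideal.Quotient.mk m) (b := b₀)
        (fun j hj => hv j (Or.inr hj)) hflat
      have hz : IsZero ((DerivedCategory.homologyFunctor _ i).obj
          (DRing.toD ((GrothLib.DR.bc (Ideal.Quotient.mk m)).obj E))) :=
        ((HomologicalComplex.exactAt_iff_isZero_homology _ _).1 (HomologicalComplex.ExactAt.of_isZero
          ((ModuleCat.extendScalars (Ideal.Quotient.mk m)).map_isZero (hv i (Or.inr (by omega)))))).of_iso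
          ((DerivedCategory.homologyFunctorFactors _ i).app _)
      exact ModuleCat.subsingleton_of_isZero (hz.of_iso ((DerivedCategory.homologyFunctor _ i).mapIso
        ((DRing.LBaseChange (Ideal.Quotient.mk m)).mapIso eE.symm ≪≫ w)))
  obtain ⟨P₁, hP₁, hP₁p, ⟨e₁⟩⟩ := (Groth.Agent.S6976.result A N hpc 1 b).2 hamp
  -- the triangle splits
  obtain ⟨e, -, -⟩ := (Groth.Agent.S6990.result A 1 b N ⟨P₁, hP₁, hP₁p, ⟨e₁⟩⟩ (Dual.inD A A)).2
    (fun i hi => ModuleCat.subsingleton_of_isZero (DerivedCategory.isZero_of_isLE (Dual.inD A A) 0 i (by omega)))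
    (Triangle.mk u' p' d') hT' rfl rfl
  haveI : T.Additive := inferInstance
  haveI : PreservesFiniteBiproducts T := Functor.preservesFiniteBiproductsOfAdditive T
  haveI : PreservesBinaryBiproducts T := preservesBinaryBiproducts_of_preservesBiproducts T
  haveI : PreservesBinaryBiproduct (Triangle.mk u' p' d').obj₁ (Triangle.mk u' p' d').obj₃ T :=
    PreservesBinaryBiproducts.preserves
  obtain ⟨eE'⟩ := nonempty_lpull_structure f
  refine ⟨P, b, hP, ?_,
    ⟨(RR f).mapIso eE'.symm ≪≫ eM.symm ≪≫ T.mapIso e ≪≫ T.mapBiprod _ _ ≪≫ biprod.mapIso (tildeUnitD A) eN⟩⟩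
  exact ⟨((tilde.functor (CommRingCat.of A)).mapHomologicalComplex (ComplexShape.up ℤ)).obj P₁,
    fun i hi => (tilde.functor (CommRingCat.of A)).map_isZero (hP₁ i hi),
    flatTerms_tilde (fun i => by haveI := hP₁p i; exact inferInstanceAs (Module.Flat A (P₁.X i))),
    ⟨((tilde.functor (CommRingCat.of A)).mapDerivedCategoryFactors.app P₁).symm ≪≫ T.mapIso e₁ ≪≫ eN⟩⟩

end GrothLib.TorBC25
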