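import Groth.Agent.Lib.TorBC25.Affine
import Groth.Agent.Lib.RpushPerf25.PerfTensor
import Groth.Agent.Lib.OX.BVdB
import Groth.Agent.Lib.OX.GeneratorBound
import Groth.Agent.Lib.OX.AffineReflect
import Groth.Agent.Lib.OX.TensorInjective
import Groth.Agent.Lib.FibreIso6.Model
import Groth.Agent.Lib.HomSh.Coherent

/-! # Direct images of perfect objects along flat proper morphisms are perfect -/

set_option autoImplicit false
set_option maxHeartbeats 1000000
set_option linter.style.haveILetI false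
universe u

open CategoryTheory CategoryTheory.Limits CategoryTheory.Pretriangulated AlgebraicGeometry

attribute [local instance] HasDerivedCategory.standard

namespace GrothLib.TorBC25

open GrothLib.OX GrothLib.LimDesc GrothLib.LimDescend GrothLib.LimSmooth

variable {X S : Scheme.{u}}

/-- Perfect objects form a thick class. -/
theorem thick_isPerfect (X : Scheme.{u}) : TriCat.Thick (DCoh.IsPerfect (X := X)) where
  zero h := isPerfect_of_isZero_obj h
  shift n h := isPerfect_shift h n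
  cone T hT h₁ h₂ := isPerfect_cone hT h₁ h₂
  total {A B C} i₁ p₁ i₂ p₂ h hA hB := by
    let s : C ⟶ A ⊞ B := biprod.lift p₁ p₂
    let r : A ⊞ B ⟶ C := biprod.desc i₁ i₂
    have hsr : s ≫ r = 𝟙 C := by rw [biprod.lift_desc, h]
    obtain ⟨Z, p, d, hT⟩ := distinguished_cocone_triangle s
    have hd : d = 0 := by
      haveI : IsSplitMono s := ⟨⟨r, hsr⟩⟩
      exact (Triangle.mor₃_eq_zero_iff_mono₁ _ hT).2 (inferInstanceAs (Mono s))
    obtain ⟨e, -⟩ := exists_iso_binaryBiproduct_of_distTriang _ hT hd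
    exact isPerfect_summand (isPerfect_of_iso (isPerfect_biprod hA hB) e)

/-- Noetherian models of proper flat morphisms over affine bases. -/
theorem exists_flat_proper_model {A : Type u} [CommRing A] {X : Scheme.{u}}
    (f : X ⟶ Spec (CommRingCat.of A)) [IsProper f] [Flat f] [LocallyOfFinitePresentation f] :
    ∃ (S₀ X₀ : Scheme.{u}) (π : Spec (CommRingCat.of A) ⟶ S₀) (f₀ : X₀ ⟶ S₀) (q : X ⟶ X₀),
      IsAffine S₀ ∧ IsNoetherian S₀ ∧ IsProper f₀ ∧ Flat f₀ ∧ IsPullback q f f₀ π := by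
  let D := fgDiagram A
  let hc := isLimitFgCone A
  haveI : QuasiCompact f := inferInstance
  haveI : QuasiSeparated f := inferInstance
  let g₁ : Spec (CommRingCat.of A) ⟶ (fgCone A).pt := 𝟙 _
  obtain ⟨i, X₀, Y₀, f₀, g₀, qX, qY, _, _, _, _, _, _, hY, hX⟩ := ConsLim.exists_model_mor f g₁
  replace hY : IsPullback qY g₁ g₀ ((fgCone A).π.app i) := hY
  have hXY : IsPullback qX (f ≫ g₁) (f₀ ≫ g₀) ((fgCone A).π.app i) := hX.paste_vert hY
  have hid : IsPullback ((fgCone A).π.app i) (𝟙 (fgCone A).pt) (𝟙 (D.obj i)) ((fgCone A).π.app i) :=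
    IsPullback.of_id_fst.flip
  haveI : CompactSpace Y₀ := QuasiCompact.compactSpace_of_compactSpace g₀
  haveI : QuasiSeparatedSpace Y₀ := quasiSeparatedSpace_of_quasiSeparated g₀
  haveI : CompactSpace X₀ := QuasiCompact.compactSpace_of_compactSpace (f₀ ≫ g₀)
  haveI : QuasiSeparatedSpace X₀ := quasiSeparatedSpace_of_quasiSeparated (f₀ ≫ g₀)
  haveI : LocallyOfFiniteType (f₀ ≫ g₀) := inferInstance
  haveI hfg : f ≫ g₁ = f := Category.comp_id f
  haveI : Flat (f ≫ g₁) := by rw [hfg]; exact ‹Flat f›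
  haveI : IsProper (f ≫ g₁) := by rw [hfg]; exact ‹IsProper f›
  obtain ⟨j₂, φ₂, h₂⟩ := exists_snd_of_exists_stage D @Flat (f₀ ≫ g₀)
    (exists_stage_of_affineCase D hc (f₀ ≫ g₀) (𝟙 _) hid hXY @Flat
      (fun a b _ ha => by haveI : Flat a := ha; infer_instance) affineCase_flat ‹Flat (f ≫ g₁)›)
  obtain ⟨j₃, φ₃, h₃⟩ := exists_snd_of_exists_stage D @IsProper (f₀ ≫ g₀)
    (exists_isProper D hc (f₀ ≫ g₀) (𝟙 _) hid hXY)
  let m : Over i := IsCofiltered.min (Over.mk φ₂) (Over.mk φ₃)
  let a₂ : m ⟶ Over.mk φ₂ := IsCofiltered.minToLeft _ _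
  let a₃ : m ⟶ Over.mk φ₃ := IsCofiltered.minToRight _ _
  let q := (cone (c := fgCone A) D i (f₀ ≫ g₀) hXY).π.app m
  have hq : IsPullback q (f ≫ g₁) (pullback.snd (f₀ ≫ g₀) (D.map m.hom)) ((fgCone A).π.app m.left) := by
    refine IsPullback.of_right ?_ (π_snd (c := fgCone A) D i (f₀ ≫ g₀) hXY m)
      (IsPullback.of_hasPullback (f₀ ≫ g₀) (D.map m.hom))
    rw [π_fst, (fgCone A).w]
    exact hXY
  have hq' : IsPullback q f (pullback.snd (f₀ ≫ g₀) (D.map m.hom)) ((fgCone A).π.app m.left) := by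
    exact (congrArg (fun t : X ⟶ (fgCone A).pt =>
      IsPullback q t (pullback.snd (f₀ ≫ g₀) (D.map m.hom)) ((fgCone A).π.app m.left)) hfg).mp hq
  refine ⟨D.obj m.left, _, (fgCone A).π.app m.left, pullback.snd (f₀ ≫ g₀) (D.map m.hom), q,
    inferInstance, inferInstance, ?_, ?_, hq'⟩
  · exact snd_of_hom D (f₀ ≫ g₀) @IsProper a₃ h₃
  · exact snd_of_hom D (f₀ ≫ g₀) @Flat a₂ h₂

/-- Tensoring with the structure sheaf changes nothing. -/
theorem nonempty_ltensor_structure (X : Scheme.{u}) [DCoh.HasLTensorMod (Coh.structureModule X)] (E : DCoh.D X) :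
    Nonempty ((DCoh.LTensorMod (Coh.structureModule X)).obj E ≅ E) := by
  obtain ⟨P, hP, ⟨e⟩⟩ := exists_kflat_rep E
  obtain ⟨v⟩ := ltensor_value (Coh.structureModule X) P hP
  let u : (DCoh.tensorBi (X := X)).flip.obj (Coh.structureModule X) ≅ 𝟭 X.Modules :=
    (tensorBraiding (X := X)).app _ ≪≫ tensorUnitNatIso
  exact ⟨(DCoh.LTensorMod (Coh.structureModule X)).mapIso e.symm ≪≫ v ≪≫
    DerivedCategory.Q.mapIso ((NatIso.mapHomologicalComplex u (ComplexShape.up ℤ)).app P ≪≫
      (Functor.mapHomologicalComplexIdIso X.Modules (ComplexShape.up ℤ)).app P) ≪≫ e⟩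

/-- The noetherian case. -/
theorem isPerfect_RR_noetherian [IsNoetherian S] (f : X ⟶ S) [IsProper f] [Flat f] {E : DCoh.D X}
    (hE : DCoh.IsPerfect E) : DCoh.IsPerfect ((RR f).obj E) := by
  haveI : DCoh.HasRpush f := KInj.hasRightDerivedFunctor _
  haveI := hasLTensorMod (Coh.structureModule X)
  haveI : IsLocallyNoetherian X := LocallyOfFiniteType.isLocallyNoetherian f
  obtain ⟨e⟩ := nonempty_ltensor_structure X E
  refine isPerfect_of_iso (RpushPerf25.isPerfect_Rpush_ltensor f (Coh.structureModule X) hE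
    (HomSh.isCoh_structureModule X) (Seesaw26.isFlatOver_structure f) ?_)
    ((DCoh.Rpush f).mapIso e ≪≫ (rpushIsoRres f).app E)
  exact ⟨QCoh.isClosed_support_of_isCoh (HomSh.isCoh_structureModule X), inferInstance⟩

/-- The affine case. -/
theorem isPerfect_RR_affine {A : Type u} [CommRing A] (f : X ⟶ Spec (CommRingCat.of A)) [IsProper f] [Flat f]
    [LocallyOfFinitePresentation f] {E : DCoh.D X} (hE : DCoh.IsPerfect E) : DCoh.IsPerfect ((RR f).obj E) := by
  obtain ⟨S₀, X₀, π, p, q, _, _, _, _, hsq⟩ := exists_flat_proper_model f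
  haveI : IsAffineHom π := isAffineHom_of_isAffine π
  haveI : IsAffineHom q := MorphismProperty.of_isPullback hsq.flip ‹IsAffineHom π›
  haveI : CompactSpace X := QuasiCompact.compactSpace_of_compactSpace f
  haveI : QuasiSeparatedSpace X := quasiSeparatedSpace_of_quasiSeparated f
  haveI : CompactSpace X₀ := QuasiCompact.compactSpace_of_compactSpace p
  haveI : QuasiSeparatedSpace X₀ := quasiSeparatedSpace_of_quasiSeparated p
  haveI := hasLpull π
  haveI := hasLpull q
  haveI : DCoh.HasRpush π := KInj.hasRightDerivedFunctor _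
  haveI : DCoh.HasRpush q := KInj.hasRightDerivedFunctor _
  obtain ⟨a⟩ := nonempty_lpullAdj π
  obtain ⟨a'⟩ := nonempty_lpullAdj q
  let adjg : DCoh.Lpull π ⊣ RR π := a.ofNatIsoRight (rpushIsoRres π)
  let adjg' : DCoh.Lpull q ⊣ RR q := a'.ofNatIsoRight (rpushIsoRres q)
  obtain ⟨G₀, hG₀, -, hgen₀⟩ := hasGen_of_qcqs X₀ ⊥ (by simp)
  letI := lpullCommShift q adjg'
  refine prop_of_generator (G := (DCoh.Lpull q).obj G₀) (isPerfect_lpull q hG₀) (fun C hC hC0 => ?_)
    ((thick_isPerfect _).comap (RR f)) ?_ hE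
  · have hz : IsZero ((RR q).obj C) := by
      refine hgen₀ _ (isQCohD_Rres q C hC) ((isZero_resD_iff_support _ _).2 fun i x _ hx => ?_) fun n φ => ?_
      · rw [Scheme.Opens.range_ι] at hx
        exact hx.elim
      · refine (adjg'.homEquiv _ _).symm.injective ?_
        have h1 := hC0 n (((DCoh.Lpull q).commShiftIso n).inv.app G₀ ≫ (adjg'.homEquiv _ _).symm φ)
        have h2 : (adjg'.homEquiv _ _).symm φ = 0 :=
          (cancel_epi (((DCoh.Lpull q).commShiftIso n).inv.app G₀)).1 (h1.trans comp_zero.symm)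
        haveI : PreservesColimitsOfSize.{0, 0} (DCoh.Lpull q) := adjg'.leftAdjoint_preservesColimits
        haveI : (DCoh.Lpull q).Additive := adjg'.left_adjoint_additive
        rw [h2, Adjunction.homEquiv_counit, Functor.map_zero, zero_comp]
    refine isZero_of_support_empty fun i => Set.eq_empty_iff_forall_notMem.2 fun x hx => hx ?_
    exact AddCommGrpCat.subsingleton_of_isZero ((Scheme.Modules.toPresheaf X ⋙
      TopCat.Presheaf.stalkFunctor Ab.{u} x).map_isZero (isZero_of_isZero_Rres q hC hz i))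
  · have hg := good_of_isPerfect hsq adjg adjg' hG₀ 0
    haveI : IsIso (theta hsq adjg adjg' G₀) :=
      (NatTrans.isIso_app_iff_of_iso (thetaNat hsq adjg adjg') ((shiftFunctorZero (DCoh.D X₀) ℤ).app G₀)).1 hg
    exact isPerfect_of_iso (isPerfect_lpull π (isPerfect_RR_noetherian p hG₀)) (asIso (theta hsq adjg adjg' G₀))

/-- **Direct images of perfect objects along flat proper morphisms of finite presentation.** -/
theorem isPerfect_RR (f : X ⟶ S) [IsProper f] [Flat f] [LocallyOfFinitePresentation f] {E : DCoh.D X}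
    (hE : DCoh.IsPerfect E) : DCoh.IsPerfect ((RR f).obj E) := by
  refine isPerfect_of_local fun s => ?_
  obtain ⟨V, hV, hsV, -⟩ := exists_isAffineOpen_mem_and_subset (x := s) (U := ⊤) trivial
  refine ⟨_, V.ι, inferInstance, by rw [Scheme.Opens.range_ι]; exact hsV, ?_⟩
  refine isPerfect_of_iso ?_ ((resDRRBaseChange f V).app E).symm
  let e := hV.isoSpec.hom
  let F := (resD (f ⁻¹ᵁ V).ι).obj E
  have h := isPerfect_RR_affine (A := Γ(S, V)) ((f ∣_ V) ≫ e) (isPerfect_resD hE (f ⁻¹ᵁ V).ι)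
  exact isPerfect_of_iso (isPerfect_resD (isPerfect_of_iso h ((RRCompIso (f ∣_ V) e).app F).symm) e)
    (asIso ((resDAdj e).counit.app ((RR (f ∣_ V)).obj F)))

end GrothLib.TorBC25
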