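import Groth.Agent.Lib.TorBC25.LamAffine
import Groth.Agent.Lib.FlatFP.TorShift

/-! # Tor independent base change -/

set_option autoImplicit false
set_option maxHeartbeats 1000000
set_option linter.style.haveILetI false
universe u v₁ v₂ v₃ v₄ w₁ w₂ w₃ w₄

open CategoryTheory CategoryTheory.Limits AlgebraicGeometry

attribute [local instance] HasDerivedCategory.standard

namespace GrothLib.TorBC25

open GrothLib.OX

section Transport

variable {A : Type w₁} {B : Type w₂} {A' : Type w₃} {B' : Type w₄} [Category.{v₁} A] [Category.{v₂} B]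
  [Category.{v₃} A'] [Category.{v₄} B']
  {Pf Rf : A ⥤ B} {Pf' Rf' : A' ⥤ B'} {Pg Rg : B' ⥤ B} {Pg' Rg' : A' ⥤ A} {L : B ⥤ B'} {L' : A ⥤ A'}
  (rf : Pf ≅ Rf) (rf' : Pf' ≅ Rf') (rg : Pg ≅ Rg) (rg' : Pg' ≅ Rg')

/-- The transported comparison. -/
def trSq (sq : Rg' ⋙ Rf ≅ Rf' ⋙ Rg) : Pg' ⋙ Pf ≅ Pf' ⋙ Pg :=
  NatIso.hcomp rg' rf ≪≫ sq ≪≫ (NatIso.hcomp rf' rg).symm

theorem isIso_transport (adj : L ⊣ Pg) (adj' : L' ⊣ Pg') (sq : Rg' ⋙ Rf ≅ Rf' ⋙ Rg) (E : A)
    (h : IsIso (((adj.ofNatIsoRight rg).homEquiv _ _).symm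
      (Rf.map ((adj'.ofNatIsoRight rg').unit.app E) ≫ sq.hom.app (L'.obj E)))) :
    IsIso ((adj.homEquiv _ _).symm (Pf.map (adj'.unit.app E) ≫ (trSq rf rf' rg rg' sq).hom.app (L'.obj E))) := by
  let θ := ((adj.ofNatIsoRight rg).homEquiv (Rf.obj E) (Rf'.obj (L'.obj E))).symm
    (Rf.map ((adj'.ofNatIsoRight rg').unit.app E) ≫ sq.hom.app (L'.obj E))
  haveI : IsIso θ := h
  suffices he : (adj.homEquiv _ _).symm (Pf.map (adj'.unit.app E) ≫ (trSq rf rf' rg rg' sq).hom.app (L'.obj E)) =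
      L.map (rf.hom.app E) ≫ θ ≫ rf'.inv.app (L'.obj E) by
    rw [he]; infer_instance
  apply (adj.homEquiv _ _).injective
  rw [Equiv.apply_symm_apply, Adjunction.homEquiv_naturality_left, Adjunction.homEquiv_naturality_right]
  have hθ : adj.homEquiv _ _ θ ≫ rg.hom.app _ =
      Rf.map ((adj'.ofNatIsoRight rg').unit.app E) ≫ sq.hom.app (L'.obj E) := by
    have h0 : (adj.ofNatIsoRight rg).homEquiv _ _ θ =
        Rf.map ((adj'.ofNatIsoRight rg').unit.app E) ≫ sq.hom.app (L'.obj E) := Equiv.apply_symm_apply _ _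
    rw [← h0, Adjunction.homEquiv_unit, Adjunction.homEquiv_unit]
    simp [Adjunction.ofNatIsoRight]
  have hθ' : adj.homEquiv _ _ θ =
      Rf.map ((adj'.ofNatIsoRight rg').unit.app E) ≫ sq.hom.app (L'.obj E) ≫ rg.inv.app _ := by
    rw [← cancel_mono (rg.hom.app (Rf'.obj (L'.obj E))), hθ]
    simp
  rw [hθ']
  simp [trSq, Adjunction.ofNatIsoRight, NatIso.hcomp]

end Transport

variable {X Y X' Y' : Scheme.{u}} {f : X ⟶ Y} {g : Y' ⟶ Y} {f' : X' ⟶ Y'} {g' : X' ⟶ X}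

/-- Tor independence gives base change on the quasi-coherent derived category. -/
theorem BC_of_torIndep (h : IsPullback g' f' f g) [QuasiCompact f] [QuasiSeparated f]
    (htor : ∀ (U : Y.Opens), IsAffineOpen U → ∀ (U' : Y'.Opens), IsAffineOpen U' → ∀ (hU' : U' ≤ g ⁻¹ᵁ U)
      (V : X.Opens), IsAffineOpen V → ∀ (hV : V ≤ f ⁻¹ᵁ U) (i : ℕ), 0 < i →
      Subsingleton (@DRing.Tor Γ(Y, U) _ i Γ(Y', U') Γ(X, V) _ (g.appLE U U' hU').hom.toModule _ (f.appLE U V hV).hom.toModule)) :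
    BC h := by
  refine BC_of_local h fun y => ?_
  obtain ⟨U, hU, U', hU', e, hy, hw⟩ := exists_affine_chart g y
  refine ⟨_, _, hU.fromSpec, hU'.fromSpec, Spec.map (g.appLE U U' e), inferInstance, inferInstance, ?_, hw, ?_⟩
  · rw [hU'.range_fromSpec]; exact hy
  refine BC_affine _ (hlam_of_tor _ _ fun C j hj i hi => ?_)
  let q := j ≫ pullback.fst f hU.fromSpec
  let V := q.opensRange
  have hV : IsAffineOpen V := isAffineOpen_opensRange q
  have hq : q ≫ f = (j ≫ pullback.snd f hU.fromSpec) ≫ hU.fromSpec := by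
    simp only [q, Category.assoc, pullback.condition]
  have hVU : V ≤ f ⁻¹ᵁ U := by
    rintro _ ⟨z, rfl⟩
    show f (q z) ∈ (U : Set Y)
    rw [← hU.range_fromSpec]
    exact ⟨(j ≫ pullback.snd f hU.fromSpec) z, by
      rw [← Scheme.Hom.comp_apply, ← hq]; rfl⟩
  let σ := IsOpenImmersion.isoOfRangeEq q hV.fromSpec (hV.range_fromSpec).symm
  let θ : Γ(X, V) ≅ C :=
    { hom := Spec.preimage σ.hom
      inv := Spec.preimage σ.inv
      hom_inv_id := Spec.map_injective (by rw [Spec.map_comp, Spec.map_preimage, Spec.map_preimage, Spec.map_id, σ.inv_hom_id])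
      inv_hom_id := Spec.map_injective (by rw [Spec.map_comp, Spec.map_preimage, Spec.map_preimage, Spec.map_id, σ.hom_inv_id]) }
  have hσ : σ.hom ≫ hV.fromSpec = q := IsOpenImmersion.isoOfRangeEq_hom_fac _ _ _
  have hψ : Spec.preimage (j ≫ pullback.snd f hU.fromSpec) = f.appLE U V hVU ≫ θ.hom := by
    apply Spec.map_injective
    rw [Spec.map_preimage, Spec.map_comp, ← cancel_mono hU.fromSpec, Category.assoc (Spec.map θ.hom),
      hU.SpecMap_appLE_fromSpec f hV hVU, ← hq, ← Category.assoc]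
    refine congrArg (· ≫ f) ?_
    rw [show Spec.map θ.hom = σ.hom from Spec.map_preimage σ.hom, hσ]
  letI mC : Module Γ(Y, U) C := (Spec.preimage (j ≫ pullback.snd f hU.fromSpec)).hom.toModule
  letI mV : Module Γ(Y, U) Γ(X, V) := (f.appLE U V hVU).hom.toModule
  letI mU : Module Γ(Y, U) Γ(Y', U') := (g.appLE U U' e).hom.toModule
  let eL : Γ(X, V) ≃ₗ[Γ(Y, U)] C :=
    { θ.commRingCatIsoToRingEquiv.toAddEquiv with
      map_smul' := fun r x => by
        change θ.hom ((f.appLE U V hVU) r * x) = (Spec.preimage (j ≫ pullback.snd f hU.fromSpec)) r * θ.hom x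
        rw [hψ, map_mul]
        rfl }
  haveI h0 : Subsingleton (DRing.Tor Γ(Y, U) i Γ(Y', U') Γ(X, V)) := htor U hU U' hU' e V hV hVU i hi
  exact (((CategoryTheory.Tor (ModuleCat.{u} Γ(Y, U)) i).obj (ModuleCat.of Γ(Y, U) Γ(Y', U'))).mapIso
    eL.toModuleIso).toLinearEquiv.toEquiv.symm.subsingleton

theorem subsingleton_tor_of_flat {R M N : Type u} [CommRing R] [AddCommGroup M] [Module R M] [AddCommGroup N]
    [Module R N] [Module.Flat R M] (i : ℕ) (hi : 0 < i) : Subsingleton (DRing.Tor R i M N) := by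
  obtain ⟨p, rfl⟩ : ∃ p, i = p + 1 := ⟨i - 1, by omega⟩
  exact (GrothLib.DR.subsingleton_iff_isZero _).2
    (GrothLib.FlatFP.isZero_tor_succ_of_flat (ModuleCat.of R M) (ModuleCat.of R N) p)

/-- **Tor independent base change** in the form of the base change morphism for an identification. -/
theorem exists_baseChangeApp (h : IsPullback g' f' f g)
    [DCoh.HasRpush f] [DCoh.HasRpush g] [DCoh.HasLpull g] [DCoh.HasRpush f'] [DCoh.HasRpush g']
    [DCoh.HasLpull g'] (adjg : DCoh.Lpull g ⊣ DCoh.Rpush g) (adjg' : DCoh.Lpull g' ⊣ DCoh.Rpush g') (hbc : BC h) :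
    ∃ e : DCoh.Rpush g' ⋙ DCoh.Rpush f ≅ DCoh.Rpush f' ⋙ DCoh.Rpush g,
      ∀ E : DCoh.D X, DCoh.IsQCohD E → IsIso (DCoh.baseChangeApp adjg adjg' e E) := by
  refine ⟨trSq (rpushIsoRres f) (rpushIsoRres f') (rpushIsoRres g) (rpushIsoRres g') (RRSquareIso h), fun E hE => ?_⟩
  exact isIso_transport (rpushIsoRres f) (rpushIsoRres f') (rpushIsoRres g) (rpushIsoRres g') adjg adjg'
    (RRSquareIso h) E (hbc _ (adjg.ofNatIsoRight (rpushIsoRres g)) _ (adjg'.ofNatIsoRight (rpushIsoRres g')) E hE)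

end GrothLib.TorBC25
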