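import Groth.Agent.Lib.TorBC25.PseudoCoh
import Groth.Agent.Lib.RpushPerf25.Bound
import Groth.Agent.Lib.RelAmp22.Charts
import Groth.Agent.S1073
import Groth.Agent.S7240

/-! # Direct images of relatively perfect objects -/

set_option autoImplicit false
set_option maxHeartbeats 1000000
set_option linter.style.haveILetI false
universe u

open CategoryTheory CategoryTheory.Limits AlgebraicGeometry

attribute [local instance] HasDerivedCategory.standard

namespace GrothLib.TorBC25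

open GrothLib.OX GrothLib.RelAmp22

variable {X S : Scheme.{u}}

/-- Uniform amplitude on a compact scheme. -/
theorem exists_amp_uniform [CompactSpace X] (f : X ⟶ S) (K : DCoh.D X)
    (h : ∀ x : X, ∃ (V : X.Opens) (a b : ℤ), x ∈ V ∧ ∀ y ∈ V, AmpAt f a b K y) :
    ∃ a b : ℤ, ∀ y, AmpAt f a b K y := by
  classical
  choose V a b hx hy using h
  obtain ⟨s, hs⟩ := isCompact_univ.elim_finite_subcover (fun x => (V x : Set X)) (fun x => (V x).2)
    (fun x _ => Set.mem_iUnion.2 ⟨x, hx x⟩)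
  obtain ⟨A, hA⟩ := (s.image a).bddBelow
  obtain ⟨B, hB⟩ := (s.image b).bddAbove
  refine ⟨A, B, fun y => ?_⟩
  obtain ⟨x, hxs, hyx⟩ := Set.mem_iUnion₂.1 (hs (Set.mem_univ y))
  exact ampAt_mono f (hA (Finset.mem_coe.2 (Finset.mem_image_of_mem a hxs)))
    (hB (Finset.mem_coe.2 (Finset.mem_image_of_mem b hxs))) (hy x y hyx)

theorem isPerfect_RR_relPerf_qc [CompactSpace S] [QuasiSeparatedSpace S] (f : X ⟶ S) [IsProper f] [Flat f]
    [LocallyOfFinitePresentation f] {E : DCoh.D X} (hpc : ∀ m : ℤ, DCoh.IsPseudoCoherentD m E)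
    (htor : DCoh.LocHasFiniteRelTorDim f E) : DCoh.IsPerfect ((RR f).obj E) := by
  haveI : DCoh.HasRpush f := KInj.hasRightDerivedFunctor _
  haveI : CompactSpace X := QuasiCompact.compactSpace_of_compactSpace f
  obtain ⟨a, b, h⟩ := exists_amp_uniform f E ((locHasFiniteRelTorDim_iff f E).1 htor)
  obtain ⟨d, hd⟩ : ∃ d, E.IsLE d := ⟨b, by
    haveI := isLE_of_amp f h
    exact DerivedCategory.TStructure.t.isLE_of_iso (DerivedCategory.Q.objObjPreimageIso E) b⟩
  have hq : DCoh.IsQCohD E := fun i => (Groth.Agent.S7240.result (i - 1) E (hpc _)).1 i (by omega)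
  let eF := DerivedCategory.Q.objObjPreimageIso E
  haveI : (DCoh.toD X (DerivedCategory.Q.objPreimage E)).IsLE d :=
    DerivedCategory.TStructure.t.isLE_of_iso eF.symm d
  obtain ⟨P, c, hP, hfl, ⟨e⟩⟩ := GrothLib.KSix19.exists_flat_rep (DerivedCategory.Q.objPreimage E) d
  let eP : DerivedCategory.Q.obj P ≅ E := e ≪≫ eF
  obtain ⟨b', hab, hb'⟩ := RpushPerf25.exists_bound_ltensor f P hP hfl
    (fun i => isQCoh_of_iso ((DerivedCategory.homologyFunctor _ i).mapIso eP.symm) (hq i))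
    (fun x => ampAt_of_iso f eP.symm (h x))
  let K := (DCoh.Rpush f).obj E
  refine isPerfect_of_iso ?_ ((rpushIsoRres f).app E)
  let eK : (DCoh.Rpush f).obj (DerivedCategory.Q.obj P) ≅ K := (DCoh.Rpush f).mapIso eP
  have hKq : DCoh.IsQCohD K := fun i =>
    isQCoh_of_iso ((DerivedCategory.homologyFunctor _ i).mapIso ((rpushIsoRres f).app E).symm) (isQCohD_Rres f E hq i)
  have ht : DCoh.HasTorAmplitudeIn a b' K :=
    (Groth.Agent.S1073.result S K hKq a b' hab).2 fun F hF _ i hi =>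
      (hb' F hF i hi).of_iso ((DerivedCategory.homologyFunctor _ i).mapIso ((DCoh.LTensorMod F).mapIso eK.symm))
  exact isPerfect_of_flatAmplitude (hasFlatAmplitudeIn_of_tor (fun G => hasLTensorMod G) hab ht)
    (isPseudoCoherentD_of_iso (isPseudoCoherentD_RR f hpc _) ((rpushIsoRres f).app E).symm)

/-- **Direct images of relatively perfect objects are perfect.** -/
theorem isPerfect_RR_relPerf (f : X ⟶ S) [IsProper f] [Flat f] [LocallyOfFinitePresentation f] {E : DCoh.D X}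
    (hpc : ∀ m : ℤ, DCoh.IsPseudoCoherentD m E) (htor : DCoh.LocHasFiniteRelTorDim f E) :
    DCoh.IsPerfect ((RR f).obj E) := by
  refine isPerfect_of_local fun s => ?_
  obtain ⟨V, hV, hsV, -⟩ := exists_isAffineOpen_mem_and_subset (x := s) (U := ⊤) trivial
  refine ⟨_, V.ι, inferInstance, by rw [Scheme.Opens.range_ι]; exact hsV, ?_⟩
  haveI : IsAffine (V : Scheme.{u}) := hV
  refine isPerfect_of_iso (isPerfect_RR_relPerf_qc (f ∣_ V) (fun k => isPseudoCoherentD_resD (hpc k) _) ?_)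
    ((resDRRBaseChange f V).app E).symm
  refine (locHasFiniteRelTorDim_iff (f ∣_ V) _).2 fun x => ?_
  obtain ⟨U, a, b, hx, h⟩ := (locHasFiniteRelTorDim_iff f E).1 htor ((f ⁻¹ᵁ V).ι x)
  refine ⟨(f ⁻¹ᵁ V).ι ⁻¹ᵁ U, a, b, hx, fun y hy => (ampAt_comp_openImmersion (f ∣_ V) V.ι _ y).1 ?_⟩
  rw [morphismRestrict_ι]
  exact (ampAt_resD_iff f (f ⁻¹ᵁ V).ι E y).2 (h _ hy)

end GrothLib.TorBC25
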