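import Groth.Agent.Lib.TorBC25.Criterion
import Groth.Agent.Lib.SiteDer.RlimMap
import Groth.Agent.Lib.TriCat.ThickProp
import Mathlib.CategoryTheory.Triangulated.Adjunction

/-! # The class of objects for which base change holds -/

set_option autoImplicit false
set_option maxHeartbeats 1000000
set_option linter.style.haveILetI false
universe u v v' w w'

open CategoryTheory CategoryTheory.Limits CategoryTheory.Pretriangulated AlgebraicGeometry

attribute [local instance] HasDerivedCategory.standard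

namespace GrothLib.TorBC25

section Abstract

variable {D : Type w} [Category.{v} D] [Preadditive D] [HasZeroObject D] [HasShift D ℤ]
  [∀ n : ℤ, (shiftFunctor D n).Additive] [Pretriangulated D]
  {E : Type w'} [Category.{v'} E] [Preadditive E] [HasZeroObject E] [HasShift E ℤ]
  [∀ n : ℤ, (shiftFunctor E n).Additive] [Pretriangulated E]
  (F : D ⥤ E) [F.CommShift ℤ] [F.IsTriangulated] (G : D ⥤ E) [G.CommShift ℤ] [G.IsTriangulated]
  (α : F ⟶ G)

/-- Exactness of the image of a distinguished triangle in the middle. -/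
theorem exact_map {T : Triangle D} (hT : T ∈ distTriang D) {W : E} (h : W ⟶ F.obj T.obj₂)
    (hh : h ≫ F.map T.mor₂ = 0) : ∃ k : W ⟶ F.obj T.obj₁, h = k ≫ F.map T.mor₁ :=
  Triangle.coyoneda_exact₂ _ (F.map_distinguished T hT) h hh

/-- Five lemma for a natural transformation of exact functors. -/
theorem isIso_app_obj₃ {T : Triangle D} (hT : T ∈ distTriang D) (h₁ : IsIso (α.app T.obj₁))
    (h₂ : IsIso (α.app T.obj₂)) (h₁' : IsIso (α.app (T.obj₁⟦(1 : ℤ)⟧)))
    (h₂' : IsIso (α.app (T.obj₂⟦(1 : ℤ)⟧))) : IsIso (α.app T.obj₃) := by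
  have hR := rot_of_distTriang _ hT
  have hRR := rot_of_distTriang _ hR
  have hmono : ∀ {W : E} (x : W ⟶ F.obj T.obj₃), x ≫ α.app T.obj₃ = 0 → x = 0 := by
    intro W x hx
    have h3 : x ≫ F.map T.mor₃ = 0 := by
      rw [← cancel_mono (α.app (T.obj₁⟦(1 : ℤ)⟧)), Category.assoc, α.naturality, reassoc_of% hx, zero_comp, zero_comp]
    obtain ⟨y, rfl⟩ : ∃ y : W ⟶ F.obj T.obj₂, x = y ≫ F.map T.mor₂ := exact_map F hR x h3
    have hy : (y ≫ α.app T.obj₂) ≫ G.map T.mor₂ = 0 := by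
      rw [Category.assoc, ← α.naturality]
      exact (Category.assoc _ _ _).symm.trans hx
    obtain ⟨z, hz⟩ := exact_map G hT (y ≫ α.app T.obj₂) hy
    have hy' : y = (z ≫ inv (α.app T.obj₁)) ≫ F.map T.mor₁ := by
      rw [← cancel_mono (α.app T.obj₂), Category.assoc, α.naturality, hz, Category.assoc, IsIso.inv_hom_id_assoc]
    rw [hy']
    show (_ ≫ F.map T.mor₁) ≫ F.map T.mor₂ = 0
    rw [Category.assoc, ← F.map_comp, comp_distTriang_mor_zero₁₂ T hT, F.map_zero, comp_zero]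
  have hepi : ∀ {W : E} (y : W ⟶ G.obj T.obj₃), ∃ x : W ⟶ F.obj T.obj₃, x ≫ α.app T.obj₃ = y := by
    intro W y
    let v : W ⟶ F.obj (T.obj₁⟦(1 : ℤ)⟧) := y ≫ G.map T.mor₃ ≫ inv (α.app (T.obj₁⟦(1 : ℤ)⟧))
    have hv : v ≫ F.map (-(T.mor₁⟦(1 : ℤ)⟧')) = 0 := by
      rw [← cancel_mono (α.app (T.obj₂⟦(1 : ℤ)⟧))]
      simp only [v, Category.assoc, zero_comp, α.naturality, IsIso.inv_hom_id_assoc]
      have h0 : T.mor₃ ≫ (-(T.mor₁⟦(1 : ℤ)⟧')) = 0 := comp_distTriang_mor_zero₂₃ _ hR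
      rw [← G.map_comp, h0, G.map_zero, comp_zero]
    obtain ⟨x, hx⟩ : ∃ x : W ⟶ F.obj T.obj₃, v = x ≫ F.map T.mor₃ := exact_map F hRR v hv
    have hw : (y - x ≫ α.app T.obj₃) ≫ G.map T.mor₃ = 0 := by
      rw [Preadditive.sub_comp, Category.assoc, ← α.naturality, ← Category.assoc]
      have hx' : v = x ≫ F.map T.mor₃ := hx
      rw [← hx', sub_eq_zero]
      simp [v]
    obtain ⟨z, hz⟩ : ∃ z : W ⟶ G.obj T.obj₂, y - x ≫ α.app T.obj₃ = z ≫ G.map T.mor₂ := exact_map G hR _ hw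
    refine ⟨x + (z ≫ inv (α.app T.obj₂)) ≫ F.map T.mor₂, ?_⟩
    rw [Preadditive.add_comp, Category.assoc _ (F.map T.mor₂), α.naturality, Category.assoc,
      IsIso.inv_hom_id_assoc]
    exact (congrArg (_ + ·) hz.symm).trans (add_sub_cancel _ _)
  obtain ⟨s, hs⟩ := hepi (𝟙 (G.obj T.obj₃))
  refine ⟨s, ?_, hs⟩
  have := hmono (α.app T.obj₃ ≫ s - 𝟙 _) (by rw [Preadditive.sub_comp, Category.assoc, hs]; simp)
  exact sub_eq_zero.1 this

/-- Objects all of whose shifts have invertible components form a thick class. -/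
theorem thick_isIso : TriCat.Thick (fun A : D => ∀ n : ℤ, IsIso (α.app (A⟦n⟧))) where
  zero h n := by
    have h' := (shiftFunctor D n).map_isZero h
    exact ⟨0, (F.map_isZero h').eq_of_src _ _, (G.map_isZero h').eq_of_src _ _⟩
  shift n hA m := (NatTrans.isIso_app_iff_of_iso α ((shiftFunctorAdd D n m).app _)).1 (hA (n + m))
  total {A B C} i₁ p₁ i₂ p₂ h hA hB n := by
    haveI := hA n
    haveI := hB n
    refine ⟨G.map (p₁⟦n⟧') ≫ inv (α.app (A⟦n⟧)) ≫ F.map (i₁⟦n⟧') +
      G.map (p₂⟦n⟧') ≫ inv (α.app (B⟦n⟧)) ≫ F.map (i₂⟦n⟧'), ?_, ?_⟩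
    · rw [Preadditive.comp_add, ← α.naturality_assoc, ← α.naturality_assoc, IsIso.hom_inv_id_assoc,
        IsIso.hom_inv_id_assoc, ← F.map_comp, ← F.map_comp, ← F.map_add, ← Functor.map_comp, ← Functor.map_comp,
        ← Functor.map_add, h, CategoryTheory.Functor.map_id, CategoryTheory.Functor.map_id]
    · simp only [Preadditive.add_comp, Category.assoc, α.naturality, IsIso.inv_hom_id_assoc]
      rw [← G.map_comp, ← G.map_comp, ← G.map_add, ← Functor.map_comp, ← Functor.map_comp, ← Functor.map_add, h,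
        CategoryTheory.Functor.map_id, CategoryTheory.Functor.map_id]
  cone T hT h₁ h₂ n := by
    have := isIso_app_obj₃ F G α (Triangle.shift_distinguished T hT n) (h₁ n) (h₂ n)
      ((NatTrans.isIso_app_iff_of_iso α ((shiftFunctorAdd D n (1 : ℤ)).app _)).1 (h₁ (n + 1)))
      ((NatTrans.isIso_app_iff_of_iso α ((shiftFunctorAdd D n (1 : ℤ)).app _)).1 (h₂ (n + 1)))
    exact this

end Abstract

open GrothLib.OX

variable {X Y : Scheme.{u}}

noncomputable instance commShift_RR (f : X ⟶ Y) : (RR f).CommShift ℤ :=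
  inferInstanceAs ((SiteDer.Rres (rmor f)).CommShift ℤ)

instance isTriangulated_RR (f : X ⟶ Y) : (RR f).IsTriangulated :=
  SiteDer.isTriangulated_res_map (rmor f).push

/-- The shift structure of a left adjoint of `Rg_*`. -/
noncomputable abbrev lpullCommShift (g : X ⟶ Y) [DCoh.HasLpull g] (adj : DCoh.Lpull g ⊣ RR g) :
    (DCoh.Lpull g).CommShift ℤ :=
  adj.leftAdjointCommShift ℤ

theorem isTriangulated_lpull (g : X ⟶ Y) [DCoh.HasLpull g] (adj : DCoh.Lpull g ⊣ RR g) :
    letI := lpullCommShift g adj; (DCoh.Lpull g).IsTriangulated := by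
  letI := lpullCommShift g adj
  haveI : adj.CommShift ℤ := adj.commShift_of_rightAdjoint ℤ
  exact adj.isTriangulated_leftAdjoint

variable {X' S S' : Scheme.{u}} {f : X ⟶ S} {g : S' ⟶ S} {f' : X' ⟶ S'} {g' : X' ⟶ X}
  (h : IsPullback g' f' f g)

/-- Base change holds for all shifts. -/
def Good [DCoh.HasLpull g] [DCoh.HasLpull g'] (adjg : DCoh.Lpull g ⊣ RR g)
    (adjg' : DCoh.Lpull g' ⊣ RR g') (E : DCoh.D X) : Prop :=
  ∀ n : ℤ, IsIso (theta h adjg adjg' (E⟦n⟧))

/-- The base change map as a natural transformation. -/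
noncomputable def thetaNat [DCoh.HasLpull g] [DCoh.HasLpull g'] (adjg : DCoh.Lpull g ⊣ RR g)
    (adjg' : DCoh.Lpull g' ⊣ RR g') : RR f ⋙ DCoh.Lpull g ⟶ DCoh.Lpull g' ⋙ RR f' where
  app E := theta h adjg adjg' E
  naturality _ _ φ := theta_naturality h adjg adjg' φ

/-- Base change holds on a thick class. -/
theorem thick_good [DCoh.HasLpull g] [DCoh.HasLpull g'] (adjg : DCoh.Lpull g ⊣ RR g)
    (adjg' : DCoh.Lpull g' ⊣ RR g') : TriCat.Thick (Good h adjg adjg') := by
  letI := lpullCommShift g adjg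
  letI := lpullCommShift g' adjg'
  haveI := isTriangulated_lpull g adjg
  haveI := isTriangulated_lpull g' adjg'
  exact thick_isIso (RR f ⋙ DCoh.Lpull g) (DCoh.Lpull g' ⋙ RR f') (thetaNat h adjg adjg')

end GrothLib.TorBC25
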