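import Groth.Agent.Lib.TorBC25.Hexagon
import Groth.Agent.Lib.TorBC25.Class
import Groth.Agent.Lib.OX.Lpull
import Groth.Agent.Lib.OX.Adjunction
import Groth.Agent.Lib.OX.RestrictAdj
import Groth.Agent.Lib.OX.AffineLocal

/-! # The base change map for arbitrary left adjoints; pasting and locality -/

set_option autoImplicit false
set_option maxHeartbeats 1000000
set_option linter.style.haveILetI false
universe u

open CategoryTheory CategoryTheory.Limits CategoryTheory.Pretriangulated AlgebraicGeometry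

attribute [local instance] HasDerivedCategory.standard

namespace GrothLib.TorBC25

open GrothLib.OX

section Generic

universe v v₁ v₂ v₃ v₄ v₅ w w₁ w₂ w₃ w₄ w₅

variable {A : Type w} {A' : Type w₁} {A'' : Type w₂} {B : Type w₃} {B' : Type w₄} {B'' : Type w₅}
  [Category.{v} A] [Category.{v₁} A'] [Category.{v₂} A''] [Category.{v₃} B] [Category.{v₄} B'] [Category.{v₅} B'']
  {F : A ⥤ B} {F' : A' ⥤ B'} {F'' : A'' ⥤ B''} {G : B' ⥤ B} {G' : A' ⥤ A} {K : B'' ⥤ B'} {K' : A'' ⥤ A'}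
  {GK : B'' ⥤ B} {GK' : A'' ⥤ A} {L : B ⥤ B'} (adj : L ⊣ G) {L' : A ⥤ A'} (adj' : L' ⊣ G')
  {M : B' ⥤ B''} (adjk : M ⊣ K) {M' : A' ⥤ A''} (adjk' : M' ⊣ K')

theorem homEquiv_comp_ofNatIsoRight (c : K ⋙ G ≅ GK) {a : B} {b : B''} (φ : M.obj (L.obj a) ⟶ b) :
    ((adj.comp adjk).ofNatIsoRight c).homEquiv a b φ = adj.homEquiv _ _ (adjk.homEquiv _ _ φ) ≫ c.hom.app b := by
  have h1 : G.map (K.map φ) ≫ c.hom.app b = c.hom.app (M.obj (L.obj a)) ≫ GK.map φ := c.hom.naturality φ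
  simp [Adjunction.homEquiv_unit, Adjunction.ofNatIsoRight, h1]

theorem adjPaste_horiz (s : G' ⋙ F ≅ F' ⋙ G) (s₂ : K' ⋙ F' ≅ F'' ⋙ K) (s₁₂ : GK' ⋙ F ≅ F'' ⋙ GK)
    (c : K ⋙ G ≅ GK) (c' : K' ⋙ G' ≅ GK')
    (hhex : ∀ e : A'', F.map (c'.hom.app e) ≫ s₁₂.hom.app e =
      s.hom.app (K'.obj e) ≫ G.map (s₂.hom.app e) ≫ c.hom.app (F''.obj e)) (E : A) :
    (((adj.comp adjk).ofNatIsoRight c).homEquiv (F.obj E) (F''.obj (M'.obj (L'.obj E)))).symm
        (F.map (((adj'.comp adjk').ofNatIsoRight c').unit.app E) ≫ s₁₂.hom.app (M'.obj (L'.obj E))) =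
      M.map ((adj.homEquiv (F.obj E) (F'.obj (L'.obj E))).symm (F.map (adj'.unit.app E) ≫ s.hom.app (L'.obj E))) ≫
        (adjk.homEquiv (F'.obj (L'.obj E)) (F''.obj (M'.obj (L'.obj E)))).symm
          (F'.map (adjk'.unit.app (L'.obj E)) ≫ s₂.hom.app (M'.obj (L'.obj E))) := by
  rw [Equiv.symm_apply_eq, homEquiv_comp_ofNatIsoRight, Adjunction.homEquiv_naturality_left,
    Equiv.apply_symm_apply, Adjunction.homEquiv_naturality_right, Equiv.apply_symm_apply]
  have hu : ((adj'.comp adjk').ofNatIsoRight c').unit.app E =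
      adj'.unit.app E ≫ G'.map (adjk'.unit.app (L'.obj E)) ≫ c'.hom.app (M'.obj (L'.obj E)) := by
    simp [Adjunction.ofNatIsoRight, Adjunction.comp_unit_app]
  have h1 : F.map (G'.map (adjk'.unit.app (L'.obj E))) ≫ s.hom.app (K'.obj (M'.obj (L'.obj E))) =
      s.hom.app (L'.obj E) ≫ G.map (F'.map (adjk'.unit.app (L'.obj E))) :=
    s.hom.naturality (adjk'.unit.app (L'.obj E))
  rw [hu, Functor.map_comp, Functor.map_comp, Functor.map_comp]
  simp only [Category.assoc]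
  rw [hhex, ra h1]
  simp

theorem adjPaste_horiz' (s : G' ⋙ F ≅ F' ⋙ G) (s₂ : K' ⋙ F' ≅ F'' ⋙ K) (s₁₂ : GK' ⋙ F ≅ F'' ⋙ GK)
    (c : K ⋙ G ≅ GK) (c' : K' ⋙ G' ≅ GK')
    (hhex : ∀ e : A'', F.map (c'.hom.app e) ≫ s₁₂.hom.app e =
      s.hom.app (K'.obj e) ≫ G.map (s₂.hom.app e) ≫ c.hom.app (F''.obj e)) (E : A) :
    (((adj.comp adjk).ofNatIsoRight c).homEquiv (F.obj E) (F''.obj ((L' ⋙ M').obj E))).symm
        (F.map (((adj'.comp adjk').ofNatIsoRight c').unit.app E) ≫ s₁₂.hom.app ((L' ⋙ M').obj E)) =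
      M.map ((adj.homEquiv (F.obj E) (F'.obj (L'.obj E))).symm (F.map (adj'.unit.app E) ≫ s.hom.app (L'.obj E))) ≫
        (adjk.homEquiv (F'.obj (L'.obj E)) (F''.obj (M'.obj (L'.obj E)))).symm
          (F'.map (adjk'.unit.app (L'.obj E)) ≫ s₂.hom.app (M'.obj (L'.obj E))) :=
  adjPaste_horiz adj adj' adjk adjk' s s₂ s₁₂ c c' hhex E

end Generic

section ThA

variable {X X' S S' : Scheme.{u}} {f : X ⟶ S} {g : S' ⟶ S} {f' : X' ⟶ S'} {g' : X' ⟶ X}
  (h : IsPullback g' f' f g)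
  {L : DCoh.D S ⥤ DCoh.D S'} (adj : L ⊣ RR g) {L' : DCoh.D X ⥤ DCoh.D X'} (adj' : L' ⊣ RR g')

/-- The base change map, for any left adjoints. -/
noncomputable def thA (E : DCoh.D X) : L.obj ((RR f).obj E) ⟶ (RR f').obj (L'.obj E) :=
  (adj.homEquiv _ _).symm ((RR f).map (adj'.unit.app E) ≫ (RRSquareIso h).hom.app (L'.obj E))

theorem homEquiv_thA (E : DCoh.D X) :
    adj.homEquiv _ _ (thA h adj adj' E) = (RR f).map (adj'.unit.app E) ≫ (RRSquareIso h).hom.app (L'.obj E) :=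
  Equiv.apply_symm_apply _ _

theorem thA_naturality {E F : DCoh.D X} (φ : E ⟶ F) :
    L.map ((RR f).map φ) ≫ thA h adj adj' F = thA h adj adj' E ≫ (RR f').map (L'.map φ) := by
  apply (adj.homEquiv _ _).injective
  rw [Adjunction.homEquiv_naturality_left, Adjunction.homEquiv_naturality_right, homEquiv_thA, homEquiv_thA]
  have h1 : (RR f).map ((RR g').map (L'.map φ)) ≫ (RRSquareIso h).hom.app (L'.obj F) =
      (RRSquareIso h).hom.app (L'.obj E) ≫ (RR g).map ((RR f').map (L'.map φ)) :=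
    (RRSquareIso h).hom.naturality (L'.map φ)
  rw [Category.assoc, ← h1]
  refine (ra ((RR f).map_comp _ _).symm _).trans (Eq.trans ?_ (ra ((RR f).map_comp _ _).symm _).symm)
  exact congrArg (fun t => (RR f).map t ≫ _) (adj'.unit.naturality φ)

/-- The base change map as a natural transformation. -/
noncomputable def thANat : RR f ⋙ L ⟶ L' ⋙ RR f' where
  app E := thA h adj adj' E
  naturality _ _ φ := thA_naturality h adj adj' φ

variable {L₂ : DCoh.D S ⥤ DCoh.D S'} (adj₂ : L₂ ⊣ RR g) {L₂' : DCoh.D X ⥤ DCoh.D X'} (adj₂' : L₂' ⊣ RR g')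

/-- The base change maps of two choices of adjoints agree. -/
theorem thA_uniq (E : DCoh.D X) :
    thA h adj adj' E ≫ (RR f').map ((adj'.leftAdjointUniq adj₂').hom.app E) =
      (adj.leftAdjointUniq adj₂).hom.app ((RR f).obj E) ≫ thA h adj₂ adj₂' E := by
  apply (adj.homEquiv _ _).injective
  rw [Adjunction.homEquiv_naturality_right, homEquiv_thA, Adjunction.homEquiv_unit, Functor.map_comp,
    Category.assoc]
  have h1 : (RR f).map ((RR g').map ((adj'.leftAdjointUniq adj₂').hom.app E)) ≫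
      (RRSquareIso h).hom.app (L₂'.obj E) =
      (RRSquareIso h).hom.app (L'.obj E) ≫ (RR g).map ((RR f').map ((adj'.leftAdjointUniq adj₂').hom.app E)) :=
    (RRSquareIso h).hom.naturality ((adj'.leftAdjointUniq adj₂').hom.app E)
  rw [← h1]
  refine (ra ((RR f).map_comp _ _).symm _).trans ?_
  rw [Adjunction.unit_leftAdjointUniq_hom_app]
  refine Eq.trans ?_ (ra (Adjunction.unit_leftAdjointUniq_hom_app adj adj₂ ((RR f).obj E)) _).symm
  exact (homEquiv_thA h adj₂ adj₂' E).symm.trans (Adjunction.homEquiv_unit _ _ _ _)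

theorem isIso_thA_iff (E : DCoh.D X) : IsIso (thA h adj adj' E) ↔ IsIso (thA h adj₂ adj₂' E) := by
  have hu := thA_uniq h adj adj' adj₂ adj₂' E
  haveI : IsIso ((RR f').map ((adj'.leftAdjointUniq adj₂').hom.app E)) := inferInstance
  haveI : IsIso ((adj.leftAdjointUniq adj₂).hom.app ((RR f).obj E)) := inferInstance
  constructor
  · intro h1
    haveI : IsIso ((adj.leftAdjointUniq adj₂).hom.app ((RR f).obj E) ≫ thA h adj₂ adj₂' E) := hu ▸ inferInstance
    exact IsIso.of_isIso_comp_left ((adj.leftAdjointUniq adj₂).hom.app ((RR f).obj E)) _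
  · intro h1
    haveI : IsIso (thA h adj adj' E ≫ (RR f').map ((adj'.leftAdjointUniq adj₂').hom.app E)) := hu ▸ inferInstance
    exact IsIso.of_isIso_comp_right _ ((RR f').map ((adj'.leftAdjointUniq adj₂').hom.app E))

/-- Base change holds on the quasi-coherent derived category. -/
def BC : Prop :=
  ∀ (L : DCoh.D S ⥤ DCoh.D S') (adj : L ⊣ RR g) (L' : DCoh.D X ⥤ DCoh.D X') (adj' : L' ⊣ RR g')
    (E : DCoh.D X), DCoh.IsQCohD E → IsIso (thA h adj adj' E)

include adj adj' in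
theorem BC.of_adj (h1 : ∀ E, DCoh.IsQCohD E → IsIso (thA h adj adj' E)) : BC h :=
  fun _ adj₂ _ adj₂' E hE => (isIso_thA_iff h adj adj' adj₂ adj₂' E).1 (h1 E hE)

end ThA

theorem exists_adjRR {X Y : Scheme.{u}} (g : X ⟶ Y) :
    ∃ (_ : DCoh.HasLpull g), Nonempty (DCoh.Lpull g ⊣ RR g) := by
  haveI := hasLpull g
  haveI : DCoh.HasRpush g := KInj.hasRightDerivedFunctor _
  obtain ⟨a⟩ := nonempty_lpullAdj g
  exact ⟨inferInstance, ⟨a.ofNatIsoRight (rpushIsoRres g)⟩⟩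

theorem isIso_thA_congr {X X' S S' : Scheme.{u}} {f : X ⟶ S} {g g₂ : S' ⟶ S} {f' : X' ⟶ S'}
    {g' g₂' : X' ⟶ X} (h : IsPullback g' f' f g) (h₂ : IsPullback g₂' f' f g₂) (eg : g = g₂) (eg' : g' = g₂')
    {L : DCoh.D S ⥤ DCoh.D S'} (adj : L ⊣ RR g) {L' : DCoh.D X ⥤ DCoh.D X'} (adj' : L' ⊣ RR g')
    {L₂ : DCoh.D S ⥤ DCoh.D S'} (adj₂ : L₂ ⊣ RR g₂) {L₂' : DCoh.D X ⥤ DCoh.D X'} (adj₂' : L₂' ⊣ RR g₂')
    (E : DCoh.D X) : IsIso (thA h adj adj' E) ↔ IsIso (thA h₂ adj₂ adj₂' E) := by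
  subst eg eg'
  exact isIso_thA_iff h adj adj' adj₂ adj₂' E

section Paste

variable {X X' S S' : Scheme.{u}} {f : X ⟶ S} {g : S' ⟶ S} {f' : X' ⟶ S'} {g' : X' ⟶ X}
  (h : IsPullback g' f' f g)
  {L : DCoh.D S ⥤ DCoh.D S'} (adj : L ⊣ RR g) {L' : DCoh.D X ⥤ DCoh.D X'} (adj' : L' ⊣ RR g')

/-- The adjunction of a composite. -/
noncomputable def compAdj {S'' : Scheme.{u}} {k : S'' ⟶ S'} {M : DCoh.D S' ⥤ DCoh.D S''} (adjk : M ⊣ RR k) :
    L ⋙ M ⊣ RR (k ≫ g) :=
  (adj.comp adjk).ofNatIsoRight (RRCompIso k g)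

theorem homEquiv_compAdj {S'' : Scheme.{u}} {k : S'' ⟶ S'} {M : DCoh.D S' ⥤ DCoh.D S''} (adjk : M ⊣ RR k)
    {A : DCoh.D S} {B : DCoh.D S''} (φ : M.obj (L.obj A) ⟶ B) :
    (compAdj adj adjk).homEquiv A B φ =
      adj.homEquiv _ _ (adjk.homEquiv _ _ φ) ≫ (RRCompIso k g).hom.app B := by
  have hu : (compAdj adj adjk).unit.app A =
      adj.unit.app A ≫ (RR g).map (adjk.unit.app (L.obj A)) ≫ (RRCompIso k g).hom.app (M.obj (L.obj A)) := by
    simp [compAdj, Adjunction.ofNatIsoRight, Adjunction.comp_unit_app]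
  have h1 : (RR g).map ((RR k).map φ) ≫ (RRCompIso k g).hom.app B =
      (RRCompIso k g).hom.app (M.obj (L.obj A)) ≫ (RR (k ≫ g)).map φ :=
    (RRCompIso k g).hom.naturality φ
  refine ((compAdj adj adjk).homEquiv_unit _ _ _).trans ?_
  refine Eq.trans ?_ (congrArg (· ≫ _) (adj.homEquiv_unit _ _ _)).symm
  refine (congrArg (· ≫ _) hu).trans ?_
  refine Eq.trans ?_ (congrArg (fun t => (adj.unit.app A ≫ t) ≫ _)
    ((congrArg (RR g).map (adjk.homEquiv_unit _ _ _)).trans ((RR g).map_comp _ _))).symm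
  rw [Category.assoc, Category.assoc]
  refine Eq.trans ?_ (by rw [Category.assoc, Category.assoc, h1])
  rfl

variable {S'' X'' : Scheme.{u}} {k : S'' ⟶ S'} {k' : X'' ⟶ X'} {f'' : X'' ⟶ S''} (h₂ : IsPullback k' f'' f' k)
  {M : DCoh.D S' ⥤ DCoh.D S''} (adjk : M ⊣ RR k) {M' : DCoh.D X' ⥤ DCoh.D X''} (adjk' : M' ⊣ RR k')

theorem thA_horiz (h₁₂ : IsPullback (k' ≫ g') f'' f (k ≫ g)) (E : DCoh.D X) :
    thA h₁₂ (compAdj adj adjk) (compAdj adj' adjk') E =
      M.map (thA h adj adj' E) ≫ thA h₂ adjk adjk' (L'.obj E) := by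
  unfold thA compAdj
  exact adjPaste_horiz' adj adj' adjk adjk' (RRSquareIso h) (RRSquareIso h₂) (RRSquareIso h₁₂) (RRCompIso k g)
    (RRCompIso k' g') (hexagon_horiz h h₂ h₁₂) E

theorem thA_vert {V V' : Scheme.{u}} {j : V ⟶ X} {j' : V' ⟶ X'} {g'' : V' ⟶ V}
    (h₀ : IsPullback g'' j' j g') (h₀₁ : IsPullback g'' (j' ≫ f') (j ≫ f) g)
    {L'' : DCoh.D V ⥤ DCoh.D V'} (adj'' : L'' ⊣ RR g'') (E : DCoh.D V) :
    L.map ((RRCompIso j f).hom.app E) ≫ thA h₀₁ adj adj'' E =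
      thA h adj adj' ((RR j).obj E) ≫ (RR f').map (thA h₀ adj' adj'' E) ≫
        (RRCompIso j' f').hom.app (L''.obj E) := by
  apply (adj.homEquiv _ _).injective
  rw [Adjunction.homEquiv_naturality_left, homEquiv_thA, Adjunction.homEquiv_naturality_right]
  erw [homEquiv_thA h]
  rw [Functor.map_comp, Category.assoc]
  have h1 : (RR f).map ((RR g').map (thA h₀ adj' adj'' E)) ≫
      (RRSquareIso h).hom.app ((RR j').obj (L''.obj E)) =
      (RRSquareIso h).hom.app (L'.obj ((RR j).obj E)) ≫ (RR g).map ((RR f').map (thA h₀ adj' adj'' E)) :=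
    (RRSquareIso h).hom.naturality (thA h₀ adj' adj'' E)
  have h2 : (RR f).map (adj'.unit.app ((RR j).obj E)) ≫ (RR f).map ((RR g').map (thA h₀ adj' adj'' E)) =
      (RR f).map ((RR j).map (adj''.unit.app E)) ≫ (RR f).map ((RRSquareIso h₀).hom.app (L''.obj E)) := by
    refine ((RR f).map_comp _ _).symm.trans ((congrArg (RR f).map ?_).trans ((RR f).map_comp _ _))
    exact (Adjunction.homEquiv_unit _ _ _ _).symm.trans (homEquiv_thA h₀ adj' adj'' E)
  rw [← Category.assoc ((RRSquareIso h).hom.app _), ← h1, Category.assoc]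
  refine Eq.trans ?_ (ra h2 _).symm
  simp only [Category.assoc]
  rw [← hexagon_vert h h₀ h₀₁]
  have h3 : (RR f).map ((RR j).map (adj''.unit.app E)) ≫ (RRCompIso j f).hom.app ((RR g'').obj (L''.obj E)) =
      (RRCompIso j f).hom.app E ≫ (RR (j ≫ f)).map (adj''.unit.app E) :=
    (RRCompIso j f).hom.naturality (adj''.unit.app E)
  refine Eq.trans ?_ (ra h3 _).symm
  simp only [Category.assoc]

include h in
/-- Base change at a direct image, from base change for the two morphisms. -/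
theorem isIso_thA_RR {V V' : Scheme.{u}} {j : V ⟶ X} {j' : V' ⟶ X'} {g'' : V' ⟶ V}
    (h₀ : IsPullback g'' j' j g') (hj : BC h₀) (hjf : BC (h₀.paste_vert h)) {E : DCoh.D V}
    (hE : DCoh.IsQCohD E) : IsIso (thA h adj adj' ((RR j).obj E)) := by
  obtain ⟨_, ⟨a⟩⟩ := exists_adjRR g''
  haveI := hjf _ adj _ a E hE
  haveI := hj _ adj' _ a E hE
  haveI : IsIso ((RRCompIso j f).hom.app E) := inferInstance
  haveI : IsIso (L.map ((RRCompIso j f).hom.app E) ≫ thA (h₀.paste_vert h) adj a E) := inferInstance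
  haveI : IsIso ((RR f').map (thA h₀ adj' a E) ≫ (RRCompIso j' f').hom.app _) := inferInstance
  haveI : IsIso (thA h adj adj' ((RR j).obj E) ≫
      ((RR f').map (thA h₀ adj' a E) ≫ (RRCompIso j' f').hom.app _)) := by
    rw [← thA_vert h adj adj' h₀ (h₀.paste_vert h) a E]
    infer_instance
  exact IsIso.of_isIso_comp_right _ ((RR f').map (thA h₀ adj' a E) ≫ (RRCompIso j' f').hom.app _)

end Paste

section Open

variable {X X' S U : Scheme.{u}} {f : X ⟶ S} {i : U ⟶ S} {fU : X' ⟶ U} {i' : X' ⟶ X}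
  (h : IsPullback i' fU f i) [IsOpenImmersion i] [IsOpenImmersion i']

/-- Base change along an open immersion. -/
theorem isIso_thA_open (E : DCoh.D X) : IsIso (thA h (resDAdj i) (resDAdj i') E) := by
  obtain ⟨C, q, d, hT⟩ := distinguished_cocone_triangle ((resDAdj i').unit.app E)
  have hC : IsZero ((resD i').obj C) :=
    (Triangle.isZero₃_iff_isIso₁ _ ((resD i').map_distinguished _ hT)).2 (isIso_resD_unit i' E)
  have hr : Set.range i' = ⇑f ⁻¹' Set.range i := by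
    rw [← h.isoPullback_hom_fst, Scheme.Hom.comp_base, TopCat.coe_comp, Set.range_comp,
      Set.range_eq_univ.2 (ConcreteCategory.bijective_of_isIso h.isoPullback.hom.base).2, Set.image_univ]
    exact Scheme.Pullback.range_fst f i
  have hC' : IsZero ((resD (f ⁻¹ᵁ i.opensRange).ι).obj C) :=
    isZero_resD_of_le _ i' (by rw [Scheme.Opens.range_ι, hr]; exact le_of_eq rfl) hC
  have hRC : IsZero ((resD i).obj ((RR f).obj C)) :=
    isZero_resD_of_le _ i.opensRange.ι (by rw [Scheme.Opens.range_ι]; exact le_of_eq rfl) (isZero_resD_RR' f hC')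
  haveI h1 : IsIso ((resD i).map ((RR f).map ((resDAdj i').unit.app E))) :=
    (Triangle.isZero₃_iff_isIso₁ _ ((resD i).map_distinguished _ ((RR f).map_distinguished _ hT))).1 hRC
  haveI : IsIso ((resD i).map ((RR f).map ((resDAdj i').unit.app E) ≫
      (RRSquareIso h).hom.app ((resD i').obj E))) := by
    rw [Functor.map_comp]; infer_instance
  rw [thA, Adjunction.homEquiv_counit]
  haveI := isIso_resDAdj_counit_app i ((RR fU).obj ((resD i').obj E))
  exact IsIso.comp_isIso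

theorem BC_open : BC h := BC.of_adj h (resDAdj i) (resDAdj i') fun E _ => isIso_thA_open h E

end Open

/-- Invertibility is local. -/
theorem isIso_of_local_resD {X : Scheme.{u}} {K L : DCoh.D X} (φ : K ⟶ L)
    (hφ : ∀ x : X, ∃ (U : Scheme.{u}) (k : U ⟶ X) (_ : IsOpenImmersion k),
      x ∈ Set.range k ∧ IsIso ((resD k).map φ)) : IsIso φ := by
  obtain ⟨C, g, c, hT⟩ := distinguished_cocone_triangle φ
  suffices IsZero C from (Triangle.isZero₃_iff_isIso₁ _ hT).1 this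
  obtain ⟨Z, hZ⟩ : ∃ Z : DCoh.D X, IsZero Z := HasZeroObject.zero
  have : IsIso (0 : Z ⟶ C) := (DerivedCategory.isIso_iff _ _).2 fun q =>
    ⟨0, ((DerivedCategory.homologyFunctor _ q).map_isZero hZ).eq_of_src _ _,
      (isZero_of_local fun x => by
        obtain ⟨U, k, hk, hx, hi⟩ := hφ x
        exact ⟨U, k, hk, hx, ((DerivedCategory.homologyFunctor U.Modules q).map_isZero
          ((Triangle.isZero₃_iff_isIso₁ _ ((resD k).map_distinguished _ hT)).2 hi)).of_iso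
            (HDResIso k C q).symm⟩).eq_of_src _ _⟩
  exact hZ.of_iso (asIso (0 : Z ⟶ C)).symm

/-- **Base change is local on the two bases.** -/
theorem BC_of_local {X Y X' Y' : Scheme.{u}} {f : X ⟶ Y} {g : Y' ⟶ Y} {f' : X' ⟶ Y'} {g' : X' ⟶ X}
    (h : IsPullback g' f' f g)
    (H : ∀ y : Y', ∃ (U U' : Scheme.{u}) (i : U ⟶ Y) (k : U' ⟶ Y') (g₀ : U' ⟶ U) (_ : IsOpenImmersion i)
      (_ : IsOpenImmersion k), y ∈ Set.range k ∧ g₀ ≫ i = k ≫ g ∧
      BC (IsPullback.of_hasPullback (pullback.snd f i) g₀)) : BC h := by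
  intro L adj L' adj' E hE
  refine isIso_of_local_resD _ fun y => ?_
  obtain ⟨U, U', i, k, g₀, hi, hk, hy, hw, hbc⟩ := H y
  refine ⟨U', k, hk, hy, ?_⟩
  let fU := pullback.snd f i
  let iX := pullback.fst f i
  have hU : IsPullback iX fU f i := IsPullback.of_hasPullback f i
  let g₀' := pullback.fst fU g₀
  let f'' := pullback.snd fU g₀
  have h0 : IsPullback g₀' f'' fU g₀ := IsPullback.of_hasPullback fU g₀
  have h4 : IsPullback (g₀' ≫ iX) f'' f (g₀ ≫ i) := h0.paste_horiz hU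
  have hwk : (g₀' ≫ iX) ≫ f = (f'' ≫ k) ≫ g := by
    rw [h4.w, hw, Category.assoc]
  let k' : pullback fU g₀ ⟶ X' := h.lift (g₀' ≫ iX) (f'' ≫ k) hwk
  have hk1 : k' ≫ g' = g₀' ≫ iX := h.lift_fst _ _ hwk
  have hk2 : IsPullback k' f'' f' k := by
    have h4' : IsPullback (k' ≫ g') f'' f (k ≫ g) := by rw [hk1, ← hw]; exact h4
    exact IsPullback.of_right h4' (h.lift_snd _ _ hwk) h
  have h3 : IsPullback (k' ≫ g') f'' f (k ≫ g) := hk2.paste_horiz h
  haveI : IsOpenImmersion k' := MorphismProperty.of_isPullback hk2.flip hk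
  haveI : IsOpenImmersion iX := MorphismProperty.of_isPullback hU.flip hi
  obtain ⟨_, ⟨a⟩⟩ := exists_adjRR g₀
  obtain ⟨_, ⟨a'⟩⟩ := exists_adjRR g₀'
  haveI e4 : IsIso (thA h4 (compAdj (resDAdj i) a) (compAdj (resDAdj iX) a') E) := by
    rw [thA_horiz hU (resDAdj i) (resDAdj iX) h0 a a' h4 E]
    haveI := isIso_thA_open hU E
    haveI := hbc _ a _ a' _ (isQCohD_resD iX hE)
    infer_instance
  haveI e3 : IsIso (thA h3 (compAdj adj (resDAdj k)) (compAdj adj' (resDAdj k')) E) :=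
    (isIso_thA_congr h4 h3 hw hk1.symm _ _ _ _ E).1 e4
  haveI e3' : IsIso ((resD k).map (thA h adj adj' E) ≫ thA hk2 (resDAdj k) (resDAdj k') (L'.obj E)) := by
    rw [← thA_horiz h adj adj' hk2 (resDAdj k) (resDAdj k') h3 E]
    exact e3
  haveI := isIso_thA_open hk2 (L'.obj E)
  exact IsIso.of_isIso_comp_right _ (thA hk2 (resDAdj k) (resDAdj k') (L'.obj E))

end GrothLib.TorBC25
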