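import Groth.Agent.Lib.TorBC25.Criterion

/-! # Coherence of the comparisons of composite derived direct images -/

set_option autoImplicit false
set_option maxHeartbeats 1000000
set_option linter.style.haveILetI false
universe u

open CategoryTheory CategoryTheory.Limits AlgebraicGeometry
open Scheme.Modules (pushforward pushforwardComp pushforwardCongr)

attribute [local instance] HasDerivedCategory.standard

namespace GrothLib.TorBC25

open GrothLib.OX

variable {X Y Z W : Scheme.{u}}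

/-- Induced maps of complexes. -/
noncomputable abbrev pcx {F G : X.Modules ⥤ Y.Modules} [F.PreservesZeroMorphisms] [G.PreservesZeroMorphisms]
    (a : F ⟶ G) (K : CochainComplex X.Modules ℤ) :=
  (NatTrans.mapHomologicalComplex a (ComplexShape.up ℤ)).app K

theorem comp_shuffle {C : Type*} [Category C] {A B B' D P Q R S T : C} {u : A ⟶ B} {a : B ⟶ B'} {b : B' ⟶ D}
    {c : D ⟶ P} {d : P ⟶ Q} {p : B ⟶ R} {q : R ⟶ P} {v : A ⟶ S} {w : S ⟶ R} {m : S ⟶ T} {n : T ⟶ Q}
    (h1 : a ≫ b ≫ c = p ≫ q) (h2 : v ≫ w = u ≫ p) (h3 : w ≫ q ≫ d = m ≫ n) :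
    u ≫ a ≫ b ≫ 𝟙 _ ≫ c ≫ d = (v ≫ m) ≫ n := by
  rw [Category.id_comp, reassoc_of% h1, ← reassoc_of% h2, h3, Category.assoc]

theorem comp_shuffle₂ {C : Type*} [Category C] {A B D P Q R B' S T U M : C} {u : A ⟶ B} {a : B ⟶ D}
    {b : D ⟶ P} {c : P ⟶ Q} {d : Q ⟶ R} {e : R ⟶ S} {c' : D ⟶ B'} {b' : B' ⟶ Q} {x : A ⟶ T} {u' : T ⟶ B'}
    {y : T ⟶ U} {u'' : U ⟶ R} {z : U ⟶ M} {n : M ⟶ S}
    (h1 : b ≫ c = c' ≫ b') (h2 : u ≫ a ≫ c' = x ≫ u') (h3 : u' ≫ b' ≫ d = y ≫ u'') (h4 : u'' ≫ e = z ≫ n) :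
    u ≫ a ≫ b ≫ c ≫ d ≫ e = (x ≫ y ≫ z) ≫ n := by
  rw [reassoc_of% h1, reassoc_of% h2, reassoc_of% h3, h4]
  simp

theorem uU_congr {f g : X ⟶ Y} (h : f = g) (K : CochainComplex X.Modules ℤ) :
    uU f K ≫ (RRCongr h).hom.app ((qD X).obj K) =
      (qD Y).map (pcx (pushforwardCongr h).hom K) ≫ uU g K := by
  subst h
  have h0 : pcx (pushforwardCongr (rfl : f = f)).hom K = 𝟙 _ := by
    refine HomologicalComplex.hom_ext _ _ fun i => ?_
    change (pushforwardCongr (rfl : f = f)).hom.app (K.X i) = 𝟙 _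
    ext U; simp
  rw [h0, CategoryTheory.Functor.map_id, Category.id_comp]
  exact Category.comp_id _

theorem isIso_uU_res (f : X ⟶ Y) (E : DCoh.D X) : IsIso (uU f ((KInj.res X.Modules).obj E).as) := by
  have h := KInj.isIso_unit_of_rightOrthogonal (KInj.rightOrthogonal_res E)
  change IsIso ((DCoh.pushKh f).map ((KInj.resAdj X.Modules).unit.app ((KInj.res X.Modules).obj E)))
  haveI := h
  exact Functor.map_isIso (DCoh.pushKh f) _

theorem isIso_uU_push_res (f : X ⟶ Y) (g : Y ⟶ Z) (E : DCoh.D X) :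
    IsIso (uU g ((pushCxF f).obj ((KInj.res X.Modules).obj E).as)) :=
  isIso_pushKh_map_unit f g E

theorem isIso_uU_push₂_res (f : X ⟶ Y) (g : Y ⟶ Z) (k : Z ⟶ W) (E : DCoh.D X) :
    IsIso (uU k ((pushCxF g).obj ((pushCxF f).obj ((KInj.res X.Modules).obj E).as))) := by
  let K := ((KInj.res X.Modules).obj E).as
  let c := pcx (pushforwardComp f g).hom K
  haveI : IsIso c := ((NatIso.mapHomologicalComplex (pushforwardComp f g) (ComplexShape.up ℤ)).app K).isIso_hom
  haveI := isIso_uU_push_res (f ≫ g) k E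
  haveI hqc : IsIso ((qD Z).map c) := Functor.map_isIso (qD Z) c
  haveI : IsIso ((pushCxF k).map c) := Functor.map_isIso (pushCxF k) c
  haveI : IsIso ((qD W).map ((pushCxF k).map c)) := Functor.map_isIso (qD W) _
  haveI h0 : IsIso ((qD W).map ((pushCxF k).map c) ≫ uU k ((pushCxF (f ≫ g)).obj K)) := inferInstance
  have h1 := uU_naturality k c
  exact @IsIso.of_isIso_comp_right _ _ _ _ _ _ ((RR k).map ((qD Z).map c))
    (@Functor.map_isIso _ _ _ _ _ _ (RR k) ((qD Z).map c) hqc) (h1 ▸ h0)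

/-- Associativity of the module comparisons on a complex. -/
theorem pcx_assoc (f : X ⟶ Y) (g : Y ⟶ Z) (k : Z ⟶ W) (K : CochainComplex X.Modules ℤ) :
    pcx (pushforwardComp g k).hom ((pushCxF f).obj K) ≫ pcx (pushforwardComp f (g ≫ k)).hom K ≫
        pcx (pushforwardCongr (Category.assoc f g k).symm).hom K =
      (pushCxF k).map (pcx (pushforwardComp f g).hom K) ≫ pcx (pushforwardComp (f ≫ g) k).hom K := by
  refine HomologicalComplex.hom_ext _ _ fun i => ?_
  change (pushforwardComp g k).hom.app _ ≫ (pushforwardComp f (g ≫ k)).hom.app _ ≫ (pushforwardCongr (Category.assoc f g k).symm).hom.app _ =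
    (pushforward k).map ((pushforwardComp f g).hom.app _) ≫ (pushforwardComp (f ≫ g) k).hom.app _
  ext U
  simp

/-- **Associativity of the comparisons of composite derived direct images.** -/
theorem RRCompIso_assoc (f : X ⟶ Y) (g : Y ⟶ Z) (k : Z ⟶ W) (E : DCoh.D X) :
    (RR k).map ((RRCompIso f g).hom.app E) ≫ (RRCompIso (f ≫ g) k).hom.app E =
      (RRCompIso g k).hom.app ((RR f).obj E) ≫ (RRCompIso f (g ≫ k)).hom.app E ≫
        (RRCongr (Category.assoc f g k).symm).hom.app E := by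
  let α : RR f ⋙ RR g ⋙ RR k ⟶ RR ((f ≫ g) ≫ k) :=
    (Functor.associator _ _ _).inv ≫ Functor.whiskerRight (RRCompIso f g).hom (RR k) ≫ (RRCompIso (f ≫ g) k).hom
  let β : RR f ⋙ RR g ⋙ RR k ⟶ RR ((f ≫ g) ≫ k) :=
    Functor.whiskerLeft (RR f) (RRCompIso g k).hom ≫ (RRCompIso f (g ≫ k)).hom ≫
      (RRCongr (Category.assoc f g k).symm).hom
  suffices h : ∀ E, α.app E = β.app E by
    have := h E
    simpa [α, β] using this
  intro E
  let K := ((KInj.res X.Modules).obj E).as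
  let e : (qD X).obj K ≅ E := (asIso (KInj.resAdj X.Modules).counit).app E
  rw [← cancel_epi ((RR f ⋙ RR g ⋙ RR k).map e.hom), α.naturality, β.naturality]
  refine congrArg (· ≫ _) ?_
  haveI := isIso_uU_res f E
  haveI := isIso_uU_push_res f g E
  haveI := isIso_uU_push₂_res f g k E
  rw [← cancel_epi (uU k ((pushCxF g).obj ((pushCxF f).obj K)) ≫ (RR k).map (uU g ((pushCxF f).obj K)) ≫
    (RR k).map ((RR g).map (uU f K)))]
  simp only [α, β, NatTrans.comp_app, Functor.associator_inv_app, Functor.whiskerRight_app,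
    Functor.whiskerLeft_app, Category.assoc]
  have e1 : (RR k).map (uU g ((pushCxF f).obj K)) ≫ (RR k).map ((RR g).map (uU f K)) ≫
      (RR k).map ((RRCompIso f g).hom.app ((qD X).obj K)) =
      (RR k).map ((qD Z).map (pcx (pushforwardComp f g).hom K)) ≫ (RR k).map (uU (f ≫ g) K) :=
    (congrArg (_ ≫ ·) ((RR k).map_comp _ _).symm).trans (((RR k).map_comp _ _).symm.trans
      ((congrArg (RR k).map (uU_comp f g K)).trans ((RR k).map_comp _ _)))
  have hA : uU k ((pushCxF g).obj ((pushCxF f).obj K)) ≫ (RR k).map (uU g ((pushCxF f).obj K)) ≫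
      (RR k).map ((RR g).map (uU f K)) ≫ 𝟙 _ ≫ (RR k).map ((RRCompIso f g).hom.app ((qD X).obj K)) ≫
        (RRCompIso (f ≫ g) k).hom.app ((qD X).obj K) =
      ((qD W).map ((pushCxF k).map (pcx (pushforwardComp f g).hom K) ≫ pcx (pushforwardComp (f ≫ g) k).hom K)) ≫
        uU ((f ≫ g) ≫ k) K := by
    rw [Functor.map_comp]
    exact comp_shuffle e1 (uU_naturality k (pcx (pushforwardComp f g).hom K)) (uU_comp (f ≫ g) k K)
  refine hA.trans ?_
  rw [← pcx_assoc f g k K]
  have hB : (RR k).map ((RR g).map (uU f K)) ≫ (RRCompIso g k).hom.app ((RR f).obj ((qD X).obj K)) =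
      (RRCompIso g k).hom.app _ ≫ (RR (g ≫ k)).map (uU f K) := (RRCompIso g k).hom.naturality (uU f K)
  refine (congrArg (· ≫ _) (((qD W).map_comp _ _).trans (congrArg (_ ≫ ·) ((qD W).map_comp _ _)))).trans ?_
  exact (comp_shuffle₂ hB (uU_comp g k ((pushCxF f).obj K)) (uU_comp f (g ≫ k) K)
    (uU_congr (Category.assoc f g k).symm K)).symm

theorem RRCongr_app (h : X ⟶ Y) {h' : X ⟶ Y} (e : h = h') (E : DCoh.D X) :
    (RRCongr e).hom.app E = eqToHom (by subst e; rfl) := by subst e; rfl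

end GrothLib.TorBC25
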