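import Groth.Agent.Lib.TorBC25.Module
import Groth.Agent.Lib.OX.HomVanish

/-! # When the derived base change map is invertible -/

set_option autoImplicit false
set_option maxHeartbeats 1000000
set_option linter.style.haveILetI false
universe u

open CategoryTheory CategoryTheory.Limits CategoryTheory.Pretriangulated AlgebraicGeometry HomologicalComplex
open Scheme.Modules (pushforward pushforwardComp pushforwardCongr pullbackPushforwardAdjunction)

attribute [local instance] HasDerivedCategory.standard

namespace GrothLib.TorBC25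

open GrothLib.OX

variable {X Y Z : Scheme.{u}} (n : ℤ)

/-- Pullback of a module in degree `n`. -/
noncomputable def lam (g : X ⟶ Y) [DCoh.HasLpull g] (N : Y.Modules) :
    (DCoh.Lpull g).obj ((sD n Y).obj N) ⟶ (sD n X).obj ((Scheme.Modules.pullback g).obj N) :=
  ((DCoh.pullKh g).totalLeftDerivedCounit DerivedCategory.Qh
      (HomotopyCategory.quasiIso Y.Modules (ComplexShape.up ℤ))).app ((sK n Y).obj N) ≫
    (qD X).map ((singleMapHomologicalComplex (Scheme.Modules.pullback g) (ComplexShape.up ℤ) n).app N).hom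

theorem isIso_lam (g : X ⟶ Y) [DCoh.HasLpull g] (N : Y.Modules) (hN : FlatMod.IsFlat N) : IsIso (lam n g N) := by
  have hK : kFlatP ((sK n Y).obj N) := isKFlat_single N hN n
  have h1 := (pullKh_resolvable g).isIso_app_of_isLeftDerivedFunctor _
    ((DCoh.pullKh g).totalLeftDerivedCounit DerivedCategory.Qh
      (HomotopyCategory.quasiIso Y.Modules (ComplexShape.up ℤ))) hK
  have h2 : IsIso ((qD X).map ((singleMapHomologicalComplex (Scheme.Modules.pullback g) (ComplexShape.up ℤ) n).app N).hom) :=
    ((qD X).mapIso ((singleMapHomologicalComplex (Scheme.Modules.pullback g) (ComplexShape.up ℤ) n).app N)).isIso_hom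
  exact @IsIso.comp_isIso _ _ _ _ _ _ _ h1 h2

section Adjoint

variable (g : X ⟶ Y) [DCoh.HasLpull g] (adj : DCoh.Lpull g ⊣ RR g)

/-- The unit on modules: the adjoint of the identity of the pullback. -/
noncomputable def adjMap {N : Y.Modules} {P : X.Modules} (hP : IsIso (tau n g P))
    (x : (Scheme.Modules.pullback g).obj N ⟶ P) : N ⟶ (pushforward g).obj P :=
  (sDFF n Y).preimage (adj.homEquiv _ _ (lam n g N ≫ (sD n X).map x) ≫ inv (tau n g P))

theorem map_adjMap {N : Y.Modules} {P : X.Modules} (hP : IsIso (tau n g P)) (x : (Scheme.Modules.pullback g).obj N ⟶ P) :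
    (sD n Y).map (adjMap n g adj hP x) ≫ tau n g P = adj.homEquiv _ _ (lam n g N ≫ (sD n X).map x) := by
  rw [adjMap, Functor.FullyFaithful.map_preimage, Category.assoc, IsIso.inv_hom_id, Category.comp_id]

theorem bijective_adjMap {N : Y.Modules} (hN : IsIso (lam n g N)) {P : X.Modules} (hP : IsIso (tau n g P)) :
    Function.Bijective (adjMap n g adj hP (N := N)) :=
  (((sDFF n X).homEquiv).trans <| (Iso.homFromEquiv (asIso (lam n g N)).symm).trans <|
    (adj.homEquiv _ _).trans <| (Iso.homToEquiv (asIso (tau n g P)).symm).trans (sDFF n Y).homEquiv.symm).bijective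

theorem adjMap_comp {N : Y.Modules} {P P' : X.Modules} (hP : IsIso (tau n g P)) (hP' : IsIso (tau n g P'))
    (x : (Scheme.Modules.pullback g).obj N ⟶ P) (y : P ⟶ P') :
    adjMap n g adj hP' (x ≫ y) = adjMap n g adj hP x ≫ (pushforward g).map y := by
  refine (sDFF n Y).map_injective ?_
  rw [← cancel_mono (tau n g P'), map_adjMap, Functor.map_comp, Functor.map_comp, Category.assoc, tau_naturality,
    ← Category.assoc, ← Category.assoc, map_adjMap, Adjunction.homEquiv_naturality_right]

/-- On modules the derived unit is the unit, up to an automorphism. -/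
theorem exists_twist {N : Y.Modules} (hN : IsIso (lam n g N)) (hP : IsIso (tau n g ((Scheme.Modules.pullback g).obj N))) :
    ∃ a : (Scheme.Modules.pullback g).obj N ⟶ (Scheme.Modules.pullback g).obj N, IsIso a ∧
      ∀ {P : X.Modules} (hP' : IsIso (tau n g P)) (x : (Scheme.Modules.pullback g).obj N ⟶ P),
        ((pullbackPushforwardAdjunction g).homEquiv N P) (a ≫ x) = adjMap n g adj hP' x := by
  let a := ((pullbackPushforwardAdjunction g).homEquiv N _).symm (adjMap n g adj hP (𝟙 _))
  have key : ∀ {P : X.Modules} (hP' : IsIso (tau n g P)) (x : (Scheme.Modules.pullback g).obj N ⟶ P),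
      ((pullbackPushforwardAdjunction g).homEquiv N P) (a ≫ x) = adjMap n g adj hP' x := fun {P} hP' x => by
    rw [Adjunction.homEquiv_naturality_right, Equiv.apply_symm_apply, ← adjMap_comp n g adj hP hP',
      Category.id_comp]
  obtain ⟨s, hs⟩ := (bijective_adjMap n g adj hN hP).2 ((pullbackPushforwardAdjunction g).homEquiv N _ (𝟙 _))
  have h1 : a ≫ s = 𝟙 _ := ((pullbackPushforwardAdjunction g).homEquiv N _).injective ((key hP s).trans hs)
  refine ⟨a, ⟨s, h1, (bijective_adjMap n g adj hN hP).1 ?_⟩, key⟩
  rw [← key hP, ← key hP, ← Category.assoc, h1, Category.id_comp, Category.comp_id]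

end Adjoint

variable {X' S S' : Scheme.{u}} {f : X ⟶ S} {g : S' ⟶ S} {f' : X' ⟶ S'} {g' : X' ⟶ X}
  (h : IsPullback g' f' f g)

/-- The canonical identification of the two composite derived direct images. -/
noncomputable def RRSquareIso : RR g' ⋙ RR f ≅ RR f' ⋙ RR g :=
  RRCompIso g' f ≪≫ RRCongr h.w ≪≫ (RRCompIso f' g).symm

theorem tau_square (P : X'.Modules) :
    tau n f ((pushforward g').obj P) ≫ (RR f).map (tau n g' P) ≫ (RRSquareIso h).hom.app ((sD n X').obj P) =
      (sD n S).map ((pushforwardComp g' f).hom.app P ≫ (pushforwardCongr h.w).hom.app P ≫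
          (pushforwardComp f' g).inv.app P) ≫
        tau n g ((pushforward f').obj P) ≫ (RR g).map (tau n f' P) := by
  have h2 := tau_comp n f' g P
  have h2' : (sD n S).map ((pushforwardComp f' g).inv.app P) ≫ tau n g ((pushforward f').obj P) ≫
      (RR g).map (tau n f' P) =
      tau n (f' ≫ g) P ≫ (RRCompIso f' g).inv.app ((sD n X').obj P) := by
    rw [← cancel_mono ((RRCompIso f' g).hom.app ((sD n X').obj P))]
    simp only [Category.assoc]
    rw [h2, Iso.inv_hom_id_app, ← Category.assoc, ← Functor.map_comp, Iso.inv_hom_id_app]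
    exact ((congrArg (· ≫ _) ((sD n S).map_id _)).trans (Category.id_comp _)).trans (Category.comp_id _).symm
  simp only [RRSquareIso, Iso.trans_hom, Iso.symm_hom, NatTrans.comp_app, Functor.map_comp, Category.assoc]
  rw [h2', ← Category.assoc (tau n f _), ← Category.assoc (tau n f _ ≫ _),
    Category.assoc (tau n f _), tau_comp n g' f P]
  simp only [Category.assoc]
  rw [← Category.assoc (tau n (g' ≫ f) P), tau_congr n (g' ≫ f) h.w P, Category.assoc]

/-- The derived base change map, for the canonical identification. -/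
noncomputable def theta [DCoh.HasLpull g] [DCoh.HasLpull g'] (adjg : DCoh.Lpull g ⊣ RR g)
    (adjg' : DCoh.Lpull g' ⊣ RR g') (E : DCoh.D X) :
    (DCoh.Lpull g).obj ((RR f).obj E) ⟶ (RR f').obj ((DCoh.Lpull g').obj E) :=
  (adjg.homEquiv _ _).symm ((RR f).map (adjg'.unit.app E) ≫ (RRSquareIso h).hom.app ((DCoh.Lpull g').obj E))

theorem theta_naturality [DCoh.HasLpull g] [DCoh.HasLpull g'] (adjg : DCoh.Lpull g ⊣ RR g)
    (adjg' : DCoh.Lpull g' ⊣ RR g') {E F : DCoh.D X} (φ : E ⟶ F) :
    (DCoh.Lpull g).map ((RR f).map φ) ≫ theta h adjg adjg' F =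
      theta h adjg adjg' E ≫ (RR f').map ((DCoh.Lpull g').map φ) := by
  apply (adjg.homEquiv _ _).injective
  rw [Adjunction.homEquiv_naturality_left, Adjunction.homEquiv_naturality_right, theta, theta,
    Equiv.apply_symm_apply, Equiv.apply_symm_apply]
  have h1 : (RR f).map ((RR g').map ((DCoh.Lpull g').map φ)) ≫ (RRSquareIso h).hom.app ((DCoh.Lpull g').obj F) =
      (RRSquareIso h).hom.app ((DCoh.Lpull g').obj E) ≫ (RR g).map ((RR f').map ((DCoh.Lpull g').map φ)) :=
    (RRSquareIso h).hom.naturality ((DCoh.Lpull g').map φ)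
  rw [Category.assoc, ← h1, ← Category.assoc, ← Functor.map_comp, ← Category.assoc, ← Functor.map_comp]
  exact congrArg (fun t => (RR f).map t ≫ _) (adjg'.unit.naturality φ)

/-- **Base change for an acyclic module.** -/
theorem isIso_theta_module [DCoh.HasLpull g] [DCoh.HasLpull g'] (adjg : DCoh.Lpull g ⊣ RR g)
    (adjg' : DCoh.Lpull g' ⊣ RR g') (M : X.Modules)
    (h1 : IsIso (tau n f M)) (h2 : IsIso (lam n g ((pushforward f).obj M))) (h3 : IsIso (lam n g' M))
    (h4 : IsIso (tau n f' ((Scheme.Modules.pullback g').obj M))) (h5 : IsIso (tau n g' ((Scheme.Modules.pullback g').obj M)))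
    (h6 : IsIso (tau n g ((Scheme.Modules.pullback g).obj ((pushforward f).obj M))))
    (h7 : IsIso (tau n g ((pushforward f').obj ((Scheme.Modules.pullback g').obj M))))
    (hbc : IsIso (AffBC.bcMap h M)) :
    IsIso (theta h adjg adjg' ((sD n X).obj M)) := by
  let P := (Scheme.Modules.pullback g').obj M
  let N := (pushforward f).obj M
  obtain ⟨a', ha', hkey'⟩ := exists_twist n g' adjg' h3 h5
  obtain ⟨a, ha, hkey⟩ := exists_twist n g adjg h2 h6
  let x := inv a ≫ AffBC.bcMap h M ≫ (pushforward f').map a'
  haveI : IsIso x := inferInstance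
  haveI : IsIso ((sD n S').map x) := inferInstance
  suffices hθ : (DCoh.Lpull g).map (tau n f M) ≫ theta h adjg adjg' ((sD n X).obj M) ≫
      (RR f').map (lam n g' M) = lam n g N ≫ (sD n S').map x ≫ tau n f' P by
    haveI h8 : IsIso ((DCoh.Lpull g).map (tau n f M)) := inferInstance
    haveI h9 : IsIso ((RR f').map (lam n g' M)) := inferInstance
    haveI h10 : IsIso (lam n g N ≫ (sD n S').map x ≫ tau n f' P) := inferInstance
    haveI h11 := IsIso.of_isIso_fac_left (f := (DCoh.Lpull g).map (tau n f M)) (h := lam n g N ≫ (sD n S').map x ≫ tau n f' P) hθ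
    exact IsIso.of_isIso_comp_right (theta h adjg adjg' ((sD n X).obj M)) ((RR f').map (lam n g' M))
  apply (adjg.homEquiv _ _).injective
  rw [Adjunction.homEquiv_naturality_left, Adjunction.homEquiv_naturality_right, theta, Equiv.apply_symm_apply,
    ← Category.assoc (lam n g N), Adjunction.homEquiv_naturality_right, ← map_adjMap n g adjg h7 x,
    ← hkey h7 x, IsIso.hom_inv_id_assoc, AffBC.bcMap, ← Adjunction.homEquiv_naturality_right_symm,
    Equiv.apply_symm_apply]
  have e1 : (RR f).map ((RR g').map (lam n g' M)) ≫ (RRSquareIso h).hom.app ((sD n X').obj P) =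
      (RRSquareIso h).hom.app ((DCoh.Lpull g').obj ((sD n X).obj M)) ≫ (RR g).map ((RR f').map (lam n g' M)) :=
    (RRSquareIso h).hom.naturality (lam n g' M)
  have e2 : adjg'.unit.app ((sD n X).obj M) ≫ (RR g').map (lam n g' M) =
      (sD n X).map ((pullbackPushforwardAdjunction g').homEquiv M P a') ≫ tau n g' P := by
    rw [← Category.comp_id a', hkey' h5, map_adjMap n g' adjg' h5, CategoryTheory.Functor.map_id, Category.comp_id]
    exact (adjg'.homEquiv_unit _ _ _).symm
  rw [Category.assoc ((RR f).map _), ← e1, ← Category.assoc ((RR f).map _), ← Functor.map_comp, e2, Functor.map_comp,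
    Category.assoc, ← Category.assoc (tau n f M), ← tau_naturality, Category.assoc, tau_square n h P,
    ← Category.assoc ((sD n S).map _), ← Functor.map_comp]
  simp only [Category.assoc]
  refine congrArg (fun t => (sD n S).map t ≫ _) ?_
  have e3 : ((pushforwardComp g' f).hom ≫ (pushforwardCongr h.w).hom ≫ (pushforwardComp f' g).inv).app
        ((Scheme.Modules.pullback g').obj M) ≫ (pushforward g).map ((pushforward f').map a') =
      (pushforward f).map ((pushforward g').map a') ≫
        ((pushforwardComp g' f).hom ≫ (pushforwardCongr h.w).hom ≫ (pushforwardComp f' g).inv).app P :=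
    (((pushforwardComp g' f).hom ≫ (pushforwardCongr h.w).hom ≫ (pushforwardComp f' g).inv).naturality a').symm
  rw [AffBC.bcV, Adjunction.homEquiv_unit, Functor.map_comp]
  simp only [Category.assoc]
  exact congrArg ((pushforward f).map ((pullbackPushforwardAdjunction g').unit.app M) ≫ ·) e3.symm

end GrothLib.TorBC25
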