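import Groth.Agent.Lib.TorBC25.Class
import Groth.Agent.Lib.OX.PerfectEnvelope
import Groth.Agent.Lib.OX.MVTriangle
import Groth.Agent.Lib.OX.AffinePush

/-! # Perfect objects are built from direct images of structure sheaves of affine opens -/

set_option autoImplicit false
set_option maxHeartbeats 1000000
set_option linter.style.haveILetI false
universe u

open CategoryTheory CategoryTheory.Limits CategoryTheory.Pretriangulated AlgebraicGeometry TopologicalSpace

attribute [local instance] HasDerivedCategory.standard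

namespace GrothLib.TorBC25

open GrothLib.OX

variable {X : Scheme.{u}} [X.IsSeparated] {P : DCoh.D X → Prop} (hP : TriCat.Thick P)
  (hgen : ∀ (A : CommRingCat.{u}) (j : Spec A ⟶ X), IsOpenImmersion j → ∀ n : ℤ,
    P ((RR j).obj ((sD n (Spec A)).obj ((genF (Spec A)).obj ⊤))))

include hP hgen in
omit [X.IsSeparated] in
theorem prop_RR_affine {U : Scheme.{u}} [IsAffine U] (j : U ⟶ X) [IsOpenImmersion j] {E : DCoh.D U}
    (hE : DCoh.IsPerfect E) : P ((RR j).obj E) := by
  let e := U.isoSpec.inv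
  have hu : IsIso ((resDAdj e).unit.app E) :=
    isIso_resDAdj_unit_of_surjective e (ConcreteCategory.bijective_of_isIso e.base).2 E
  obtain ⟨M, ⟨eM⟩⟩ := exists_tildeD_rep (isQCohD_of_isPerfect hE) e
  have hM : DRing.IsPerfect Γ(U, ⊤) M :=
    (isPerfect_tildeD_iff (A := Γ(U, ⊤)) M).1 (isPerfect_of_iso (isPerfect_resD hE e) eM.symm)
  refine hP.of_iso ((RRCompIso e j).symm.app _ ≪≫ (RR j).mapIso ((RR e).mapIso eM ≪≫ (@asIso _ _ _ _ _ hu).symm)) ?_
  exact prop_tildeD_of_isPerfect (A := Γ(U, ⊤)) (hP.comap (RR (e ≫ j)))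
    (fun k => hP.of_iso ((RR (e ≫ j)).mapIso ((sDIso k _).symm.app _)) (hgen _ (e ≫ j) inferInstance k)) hM

include hP hgen in
theorem prop_RR_of_cover : ∀ (m : ℕ) {U : Scheme.{u}} (j : U ⟶ X) [IsOpenImmersion j] (c : Fin m → U.Opens),
    (∀ i, IsAffineOpen (c i)) → (⨆ i, c i) = ⊤ → ∀ E : DCoh.D U, DCoh.IsPerfect E → P ((RR j).obj E)
  | 0, U, j, _, c, _, hc, E, hE => by
    have : IsEmpty U := ⟨fun x => by
      have hx : x ∈ ((⊤ : U.Opens) : Set U) := trivial
      rw [← hc, iSup_of_empty] at hx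
      exact hx⟩
    exact prop_RR_affine hP hgen j hE
  | m + 1, U, j, _, c, hU, hc, E, hE => by
    have : U.IsSeparated := ⟨by rw [← terminal.comp_from j]; infer_instance⟩
    let B : U.Opens := ⨆ i : Fin m, c i.succ
    let W : U.Opens := c 0 ⊓ B
    have hcov : c 0 ⊔ B = ⊤ := by
      rw [eq_top_iff, ← hc]
      refine iSup_le fun i => ?_
      cases i using Fin.cases with
      | zero => exact le_sup_left
      | succ i => exact le_sup_of_le_right (le_iSup (fun i : Fin m => c i.succ) i)
    obtain ⟨a, b, d, hT⟩ := exists_mvTriangle (c 0) B W hcov rfl E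
    have hPj := hP.comap (RR j)
    refine hPj.ext₁ _ hT (hPj.biprod ?_ ?_) ?_
    · have : IsAffine (c 0 : Scheme.{u}) := hU 0
      exact hP.of_iso ((RRCompIso (c 0).ι j).app _).symm (prop_RR_affine hP hgen _ (isPerfect_resD hE _))
    · refine hP.of_iso ((RRCompIso B.ι j).app _).symm (prop_RR_of_cover m _ (fun i => B.ι ⁻¹ᵁ c i.succ) (fun i => ?_) ?_ _
        (isPerfect_resD hE _))
      · exact (hU i.succ).preimage_of_isOpenImmersion B.ι ((le_iSup (fun i : Fin m => c i.succ) i).trans_eq B.opensRange_ι.symm)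
      · rw [← Scheme.Hom.preimage_iSup, Scheme.Opens.ι_preimage_self]
    · refine hP.of_iso ((RRCompIso W.ι j).app _).symm (prop_RR_of_cover m _ (fun i => W.ι ⁻¹ᵁ (c 0 ⊓ c i.succ)) (fun i => ?_) ?_ _
        (isPerfect_resD hE _))
      · refine ((hU 0).inf (hU i.succ)).preimage_of_isOpenImmersion W.ι ?_
        rw [Scheme.Opens.opensRange_ι]
        exact inf_le_inf_left _ (le_iSup (fun i : Fin m => c i.succ) i)
      · rw [← Scheme.Hom.preimage_iSup, ← inf_iSup_eq, Scheme.Opens.ι_preimage_self]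

include hP hgen in
/-- Perfect objects lie in every thick class containing the direct images of the affine structure sheaves. -/
theorem prop_of_isPerfect [CompactSpace X] {E : DCoh.D X} (hE : DCoh.IsPerfect E) : P E := by
  let c := X.affineCover.finiteSubcover
  let e := (Fintype.equivFin c.I₀).symm
  have hu : IsIso ((resDAdj (𝟙 X)).unit.app E) :=
    isIso_resDAdj_unit_of_surjective (𝟙 X) (fun x => ⟨x, rfl⟩) E
  refine hP.of_iso (@asIso _ _ _ _ _ hu).symm (prop_RR_of_cover hP hgen _ (𝟙 X) (fun i => (c.f (e i)).opensRange)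
    (fun i => isAffineOpen_opensRange _) ?_ _ (isPerfect_resD hE _))
  rw [show (⨆ i, (c.f (e i)).opensRange) = ⨆ k, (c.f k).opensRange from e.iSup_comp (g := fun k => (c.f k).opensRange)]
  exact c.iSup_opensRange

end GrothLib.TorBC25
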