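import Groth.Agent.Lib.TorBC25.Coherence

/-! # Pasting squares of composite derived direct images -/

set_option autoImplicit false
set_option maxHeartbeats 1000000
set_option linter.style.haveILetI false
universe u

open CategoryTheory CategoryTheory.Limits AlgebraicGeometry

attribute [local instance] HasDerivedCategory.standard

namespace GrothLib.TorBC25

open GrothLib.OX

variable {X Y Z : Scheme.{u}}

theorem ra {C : Type*} [Category C] {A B D E : C} {a : A ⟶ B} {b : B ⟶ D} {c : A ⟶ D} (h : a ≫ b = c)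
    (t : D ⟶ E) : a ≫ b ≫ t = c ≫ t := by rw [← Category.assoc, h]

theorem iso_sq_comp {C D : Type*} [Category C] [Category D] {F G H K : C ⥤ D} (α : F ≅ G) (β : G ≅ H) (γ : K ≅ H)
    (E : C) : (α ≪≫ β ≪≫ γ.symm).hom.app E ≫ γ.hom.app E = α.hom.app E ≫ β.hom.app E := by
  simp

/-- The component of `RRCongr`. -/
local notation:max "cg" e:max E:max => NatTrans.app (Iso.hom (RRCongr e)) E

theorem cg_trans {f f₂ f₃ : X ⟶ Y} (e : f = f₂) (e' : f₂ = f₃) (E : DCoh.D X) :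
    cg e E ≫ cg e' E = cg (e.trans e') E := by
  subst e e'
  exact Category.id_comp _

theorem cg_square {a b c d e k : X ⟶ Y} (p : a = b) (q : b = c) (r : a = d) (s : d = e) (t : e = k) (w : k = c)
    (E : DCoh.D X) : cg p E ≫ cg q E = cg r E ≫ cg s E ≫ cg t E ≫ cg w E := by
  subst p q r s t
  simp only [cg_trans]

theorem cg_rfl (f : X ⟶ Y) (E : DCoh.D X) : cg (rfl : f = f) E = 𝟙 _ := rfl

theorem map_cg_comp {f f₂ : X ⟶ Y} (e : f = f₂) (g : Y ⟶ Z) (E : DCoh.D X) :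
    (RR g).map (cg e E) ≫ (RRCompIso f₂ g).hom.app E =
      (RRCompIso f g).hom.app E ≫ cg (congrArg (· ≫ g) e) E := by
  subst e
  rw [cg_rfl, cg_rfl, CategoryTheory.Functor.map_id, Category.id_comp, Category.comp_id]

theorem cg_comp (f : X ⟶ Y) {g g₂ : Y ⟶ Z} (e : g = g₂) (E : DCoh.D X) :
    cg e ((RR f).obj E) ≫ (RRCompIso f g₂).hom.app E =
      (RRCompIso f g).hom.app E ≫ cg (congrArg (f ≫ ·) e) E := by
  subst e
  rw [cg_rfl, cg_rfl, Category.id_comp, Category.comp_id]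

theorem assoc_cg {W : Scheme.{u}} (f : X ⟶ Y) (g : Y ⟶ Z) (k : Z ⟶ W) (E : DCoh.D X) :
    (RR k).map ((RRCompIso f g).hom.app E) ≫ (RRCompIso (f ≫ g) k).hom.app E =
      (RRCompIso g k).hom.app ((RR f).obj E) ≫ (RRCompIso f (g ≫ k)).hom.app E ≫
        cg (Category.assoc f g k).symm E :=
  RRCompIso_assoc f g k E

theorem assoc_cg' {W : Scheme.{u}} (f : X ⟶ Y) (g : Y ⟶ Z) (k : Z ⟶ W) (E : DCoh.D X) :
    (RRCompIso g k).hom.app ((RR f).obj E) ≫ (RRCompIso f (g ≫ k)).hom.app E =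
      (RR k).map ((RRCompIso f g).hom.app E) ≫ (RRCompIso (f ≫ g) k).hom.app E ≫ cg (Category.assoc f g k) E := by
  rw [ra (assoc_cg f g k E), Category.assoc, Category.assoc, cg_trans, cg_rfl, Category.comp_id]

variable {X' S S' : Scheme.{u}} {f : X ⟶ S} {g : S' ⟶ S} {f' : X' ⟶ S'} {g' : X' ⟶ X}
  (h : IsPullback g' f' f g)

theorem RRSquareIso_eq : RRSquareIso h = RRCompIso g' f ≪≫ RRCongr h.w ≪≫ (RRCompIso f' g).symm := rfl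

theorem RRSquareIso_comp (E : DCoh.D X') :
    (RRSquareIso h).hom.app E ≫ (RRCompIso f' g).hom.app E = (RRCompIso g' f).hom.app E ≫ cg h.w E := by
  exact (congrArg (fun t : RR g' ⋙ RR f ≅ RR f' ⋙ RR g => t.hom.app E ≫ (RRCompIso f' g).hom.app E)
    (RRSquareIso_eq h)).trans (iso_sq_comp (RRCompIso g' f) (RRCongr h.w) (RRCompIso f' g) E)

theorem horiz_aux {C C' : Type*} [Category C] [Category C'] (G : C' ⥤ C) {W₁ W₂ O₁ O₂ N M P Q R' V' T : C}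
    {N' M' R P' : C'} {a : W₁ ⟶ W₂} {sq12 : W₂ ⟶ O₁} {d : O₁ ⟶ O₂} {e : W₂ ⟶ P} {w12 : P ⟶ O₂} [Mono d]
    {sq1 : W₁ ⟶ G.obj N'} {sq2 : N' ⟶ M'} {c : G.obj M' ⟶ O₁} {c1 : W₁ ⟶ N} {e1 : N ⟶ M} {cga : M ⟶ P}
    {p : M' ⟶ P'} {q : G.obj P' ⟶ Q} {cgb : Q ⟶ O₂} {r : N' ⟶ R} {v : R ⟶ P'} {q' : G.obj R ⟶ R'} {cgc : R' ⟶ Q}
    {c2 : G.obj N' ⟶ V'} {e2 : V' ⟶ T} {cgd : T ⟶ R'} {cge : N ⟶ V'} {cgf : M ⟶ T}
    (h1 : sq12 ≫ d = e ≫ w12) (h2 : a ≫ e = c1 ≫ e1 ≫ cga) (h3 : c ≫ d = G.map p ≫ q ≫ cgb)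
    (h4 : sq2 ≫ p = r ≫ v) (h5 : G.map v ≫ q = q' ≫ cgc) (h6 : G.map r ≫ q' = c2 ≫ e2 ≫ cgd)
    (h7 : sq1 ≫ c2 = c1 ≫ cge) (h8 : cge ≫ e2 = e1 ≫ cgf) (h9 : cga ≫ w12 = cgf ≫ cgd ≫ cgc ≫ cgb) :
    a ≫ sq12 = sq1 ≫ G.map sq2 ≫ c := by
  rw [← cancel_mono d]
  simp only [Category.assoc]
  rw [h1, ra h2, h3, ← Functor.map_comp_assoc G, h4, Functor.map_comp]
  simp only [Category.assoc]
  rw [ra h5]
  simp only [Category.assoc]
  rw [ra h6]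
  simp only [Category.assoc]
  rw [ra h7]
  simp only [Category.assoc]
  rw [ra h8]
  simp only [Category.assoc]
  rw [h9]

/-- Horizontal pasting. -/
theorem hexagon_horiz {S'' X'' : Scheme.{u}} {k : S'' ⟶ S'} {k' : X'' ⟶ X'} {f'' : X'' ⟶ S''}
    (h₂ : IsPullback k' f'' f' k) (h₁₂ : IsPullback (k' ≫ g') f'' f (k ≫ g)) (E : DCoh.D X'') :
    (RR f).map ((RRCompIso k' g').hom.app E) ≫ (RRSquareIso h₁₂).hom.app E =
      (RRSquareIso h).hom.app ((RR k').obj E) ≫ (RR g).map ((RRSquareIso h₂).hom.app E) ≫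
        (RRCompIso k g).hom.app ((RR f'').obj E) :=
  horiz_aux (RR g) (RRSquareIso_comp h₁₂ E) (assoc_cg k' g' f E) (assoc_cg' f'' k g E)
    (RRSquareIso_comp h₂ E) (map_cg_comp h₂.w g E) (assoc_cg k' f' g E)
    (RRSquareIso_comp h ((RR k').obj E)) (cg_comp k' h.w E) (cg_square _ _ _ _ _ _ E)

theorem vert_aux {C C' : Type*} [Category C] [Category C'] (F : C' ⥤ C) {W₂ O₁ O₂ P Q N M T U U₂ V : C}
    {A' B' R W₁' : C'} {a : F.obj W₁' ⟶ W₂} {sq01 : W₂ ⟶ O₁} {d : O₁ ⟶ O₂} [Mono d] {e : W₂ ⟶ P} {w01 : P ⟶ O₂}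
    {m : W₁' ⟶ R} {sq0 : W₁' ⟶ A'} {p : A' ⟶ B'} {v : R ⟶ B'} {q : F.obj R ⟶ Q} {cga : Q ⟶ P}
    {q' : F.obj B' ⟶ U} {cgc : Q ⟶ U} {s1 : F.obj A' ⟶ N} {c : N ⟶ O₁} {c2 : N ⟶ M}
    {e2 : M ⟶ T} {cgd : T ⟶ O₂} {c1 : F.obj A' ⟶ U₂} {cge : U₂ ⟶ M} {e1 : U₂ ⟶ V} {cgf : V ⟶ T}
    {cgg : U ⟶ V}
    (h1 : sq01 ≫ d = e ≫ w01) (h2 : a ≫ e = F.map m ≫ q ≫ cga) (h3 : c ≫ d = c2 ≫ e2 ≫ cgd)
    (h4 : s1 ≫ c2 = c1 ≫ cge) (h5 : cge ≫ e2 = e1 ≫ cgf) (h6 : c1 ≫ e1 = F.map p ≫ q' ≫ cgg)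
    (h7 : sq0 ≫ p = m ≫ v) (h8 : F.map v ≫ q' = q ≫ cgc) (h9 : cga ≫ w01 = cgc ≫ cgg ≫ cgf ≫ cgd) :
    a ≫ sq01 = F.map sq0 ≫ s1 ≫ c := by
  rw [← cancel_mono d]
  simp only [Category.assoc]
  rw [h1, ra h2, h3]
  simp only [Category.assoc]
  rw [ra h4]
  simp only [Category.assoc]
  rw [ra h5]
  simp only [Category.assoc]
  rw [ra h6]
  simp only [Category.assoc]
  rw [← Functor.map_comp_assoc F, h7, Functor.map_comp]
  simp only [Category.assoc]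
  rw [ra h8]
  simp only [Category.assoc]
  rw [h9]

/-- Vertical pasting. -/
theorem hexagon_vert {V V' : Scheme.{u}} {j : V ⟶ X} {j' : V' ⟶ X'} {g'' : V' ⟶ V}
    (h₀ : IsPullback g'' j' j g') (h₀₁ : IsPullback g'' (j' ≫ f') (j ≫ f) g) (E : DCoh.D V') :
    (RRCompIso j f).hom.app ((RR g'').obj E) ≫ (RRSquareIso h₀₁).hom.app E =
      (RR f).map ((RRSquareIso h₀).hom.app E) ≫ (RRSquareIso h).hom.app ((RR j').obj E) ≫
        (RR g).map ((RRCompIso j' f').hom.app E) :=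
    vert_aux (RR f) (RRSquareIso_comp h₀₁ E) (assoc_cg' g'' j f E)
      (assoc_cg j' f' g E) (RRSquareIso_comp h ((RR j').obj E)) (cg_comp j' h.w E) (assoc_cg' j' g' f E)
      (RRSquareIso_comp h₀ E) (map_cg_comp h₀.w f E) (cg_square _ _ _ _ _ _ E)

end GrothLib.TorBC25
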