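import Groth.Agent.Lib.TorBC25.BCAffine
import Groth.Agent.Lib.TorBC25.Splits
import Groth.Agent.Lib.OX.TildeBaseChange
import Groth.Agent.Lib.OX.AffinePush
import Groth.Agent.Lib.DCxRing.TorIndepSquare

/-! # Acyclicity of associated sheaves for derived pullback, from vanishing of Tor -/

set_option autoImplicit false
set_option maxHeartbeats 1000000
set_option linter.style.haveILetI false
universe u

open CategoryTheory CategoryTheory.Limits AlgebraicGeometry HomologicalComplex

attribute [local instance] HasDerivedCategory.standard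

namespace GrothLib.TorBC25

open GrothLib.OX

/-- Derived pullback of a module with a K-flat resolution that stays a resolution. -/
theorem isIso_lam_of_resolution {X Y : Scheme.{u}} (n : ℤ) (g : X ⟶ Y) [DCoh.HasLpull g] (N : Y.Modules)
    {Q : CochainComplex Y.Modules ℤ} (hQ : DCoh.IsKFlat Q)
    (π : Q ⟶ (single Y.Modules (ComplexShape.up ℤ) n).obj N) [QuasiIso π]
    (hπ : QuasiIso ((pullCxF g).map π)) : IsIso (lam n g N) := by
  let c := (DCoh.pullKh g).totalLeftDerivedCounit DerivedCategory.Qh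
    (HomotopyCategory.quasiIso Y.Modules (ComplexShape.up ℤ))
  let q := (HomotopyCategory.quotient Y.Modules (ComplexShape.up ℤ)).map π
  have h1 : IsIso (c.app ((HomotopyCategory.quotient _ _).obj Q)) :=
    (pullKh_resolvable g).isIso_app_of_isLeftDerivedFunctor _ c hQ
  have h2 : IsIso (DerivedCategory.Qh.map q) :=
    Localization.inverts DerivedCategory.Qh (HomotopyCategory.quasiIso Y.Modules (ComplexShape.up ℤ)) _
      ((HomotopyCategory.quotient_map_mem_quasiIso_iff π).2 ‹QuasiIso π›)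
  have h3 : IsIso ((DCoh.pullKh g).map q) :=
    Localization.inverts DerivedCategory.Qh (HomotopyCategory.quasiIso X.Modules (ComplexShape.up ℤ))
      (((Scheme.Modules.pullback g).mapHomotopyCategory (ComplexShape.up ℤ)).map q)
      ((HomotopyCategory.quotient_map_mem_quasiIso_iff _).2 hπ)
  have h4 : (DCoh.Lpull g).map (DerivedCategory.Qh.map q) ≫ c.app ((sK n Y).obj N) =
      c.app ((HomotopyCategory.quotient _ _).obj Q) ≫ (DCoh.pullKh g).map q := c.naturality q
  haveI := h1
  haveI := h2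
  haveI := h3
  haveI : IsIso ((DCoh.Lpull g).map (DerivedCategory.Qh.map q) ≫ c.app ((sK n Y).obj N)) := by
    rw [h4]; infer_instance
  haveI h5 : IsIso (c.app ((sK n Y).obj N)) :=
    IsIso.of_isIso_comp_left ((DCoh.Lpull g).map (DerivedCategory.Qh.map q)) _
  exact @IsIso.comp_isIso _ _ _ _ _ _ _ h5
    ((qD X).mapIso ((singleMapHomologicalComplex (Scheme.Modules.pullback g) (ComplexShape.up ℤ) n).app N)).isIso_hom

variable {R R' : Type u} [CommRing R] [CommRing R'] (φ : R →+* R')

/-- Resolutions that stay resolutions after extension of scalars. -/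
theorem exists_resolution_bc (n : ℤ) (M : ModuleCat.{u} R)
    (hT : letI := φ.toAlgebra; ∀ p : ℕ, 0 < p → Subsingleton (DRing.Tor R p R' M)) :
    ∃ (F : CochainComplex (ModuleCat.{u} R) ℤ)
      (ε : F ⟶ (single (ModuleCat.{u} R) (ComplexShape.up ℤ) n).obj M),
      KF.IsKFlat F ∧ QuasiIso ε ∧ QuasiIso ((DR.bc φ).map ε) := by
  letI := φ.toAlgebra
  let F := (projectiveResolution M).cochainComplex
  let ε : F ⟶ (single (ModuleCat.{u} R) (ComplexShape.up ℤ) 0).obj M := (projectiveResolution M).π'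
  haveI : QuasiIso ε := inferInstanceAs (QuasiIso (projectiveResolution M).π')
  have hbc : ∀ i : ℤ, i < 0 → ((DR.bc φ).obj F).ExactAt i := fun i hi => by
    obtain ⟨p, rfl⟩ : ∃ p : ℕ, i = -((p + 1 : ℕ) : ℤ) := ⟨(-i - 1).toNat, by push_cast; omega⟩
    exact (DR.exactAt_bc_iff φ F _).2 ((DR.tExact_iff F R' _).2
      ((KF.subsingleton_tor_iff R' (projectiveResolution M) p).1 (hT (p + 1) (by omega))))
  have hq : QuasiIso ((DR.bc φ).map ε) := (DerCat.quasiIso_iff_acyclic_mappingCone _).2
    (DerCat.acyclic_of_iso (CochainComplex.mappingCone.mapHomologicalComplexIso ε (ModuleCat.extendScalars.{u, u, u} φ))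
      (DR.acyclic_bc_cone φ ε (KF.vanishesAbove_cochainComplex _) hbc))
  let s := (CochainComplex.singleFunctors (ModuleCat.{u} R)).shiftIso (-n) n 0 (by omega)
  refine ⟨F⟦-n⟧, ε⟦-n⟧' ≫ (s.app M).hom, KF.isKFlat_shift (KF.isKFlat_cochainComplex _) (-n), ?_, ?_⟩
  · exact inferInstanceAs (QuasiIso (ε⟦-n⟧' ≫ (s.app M).hom))
  · rw [Functor.map_comp]
    haveI : QuasiIso (((DR.bc φ).map ε)⟦-n⟧') := inferInstance
    haveI : QuasiIso ((DR.bc φ).map (ε⟦-n⟧')) :=
      (quasiIso_iff_of_arrow_mk_iso _ _ (Arrow.isoMk (((DR.bc φ).commShiftIso (-n)).app _)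
        (((DR.bc φ).commShiftIso (-n)).app _) (((DR.bc φ).commShiftIso (-n)).hom.naturality ε).symm)).2 ‹_›
    exact quasiIso_comp ((DR.bc φ).map (ε⟦-n⟧')) ((DR.bc φ).map (s.app M).hom)

/-- **Acyclicity of an associated sheaf for derived pullback.** -/
theorem isIso_lam_tilde (n : ℤ) (M : ModuleCat.{u} R) [DCoh.HasLpull (specHom φ)]
    (hT : letI := φ.toAlgebra; ∀ p : ℕ, 0 < p → Subsingleton (DRing.Tor R p R' M)) :
    IsIso (lam n (specHom φ) ((tilde.functor (CommRingCat.of R)).obj M)) := by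
  obtain ⟨F, ε, hF, hε, hbε⟩ := exists_resolution_bc φ n M hT
  haveI := hε
  let T := (tilde.functor (CommRingCat.of R)).mapHomologicalComplex (ComplexShape.up ℤ)
  let e := (singleMapHomologicalComplex (tilde.functor (CommRingCat.of R)) (ComplexShape.up ℤ) n).app M
  haveI : QuasiIso (T.map ε) := (quasiIso_map_iff_of_preservesHomology _ _).2 hε
  haveI : QuasiIso (T.map ε ≫ e.hom) := inferInstance
  refine isIso_lam_of_resolution n (specHom φ) _ (kflat_tilde hF) (T.map ε ≫ e.hom) ?_
  rw [Functor.map_comp]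
  haveI : QuasiIso (((tilde.functor (CommRingCat.of R')).mapHomologicalComplex (ComplexShape.up ℤ)).map
      ((DR.bc φ).map ε)) := (quasiIso_map_iff_of_preservesHomology _ _).2 hbε
  haveI : QuasiIso ((pullCxF (specHom φ)).map (T.map ε)) :=
    (quasiIso_iff_of_arrow_mk_iso _ _ (Arrow.isoMk ((tildePullCxIso φ).app _) ((tildePullCxIso φ).app _)
      ((tildePullCxIso φ).hom.naturality ε).symm)).2 ‹_›
  exact quasiIso_comp ((pullCxF (specHom φ)).map (T.map ε)) ((pullCxF (specHom φ)).map e.hom)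

/-- The hypothesis for affine bases, from vanishing of Tor. -/
theorem hlam_of_tor {A B : CommRingCat.{u}} (φ : A ⟶ B) {X : Scheme.{u}} (p : X ⟶ Spec A)
    (hT : ∀ (C : CommRingCat.{u}) (j : Spec C ⟶ X), IsOpenImmersion j → ∀ i : ℕ, 0 < i →
      Subsingleton (@DRing.Tor A _ i B C _ φ.hom.toModule _ (Spec.preimage (j ≫ p)).hom.toModule)) :
    HLam p (Spec.map φ) := by
  intro _ C j hj k
  let ψ := Spec.preimage (j ≫ p)
  let M := (ModuleCat.restrictScalars ψ.hom).obj (ModuleCat.of C C)
  let e : (tilde.functor A).obj M ≅ (Scheme.Modules.pushforward (j ≫ p)).obj (Coh.structureModule (Spec C)) :=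
    ((pushTildeIso ψ).app (ModuleCat.of C C)).symm ≪≫
      (Scheme.Modules.pushforward (Spec.map ψ)).mapIso tildeSelf ≪≫
      (Scheme.Modules.pushforwardCongr (Spec.map_preimage (j ≫ p))).app _
  haveI : DCoh.HasLpull (specHom φ.hom) := ‹_›
  refine isIso_lam_of_iso k (Spec.map φ) e (isIso_lam_tilde φ.hom k M ?_)
  intro i hi
  exact hT C j hj i hi

end GrothLib.TorBC25
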