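import Groth.Agent.Lib.OX.AcyclicPush
import Groth.Agent.Lib.OX.RRComp
import Groth.Agent.Lib.OX.ProjCx
import Groth.Agent.Lib.OX.Adjunction
import Groth.Agent.Lib.OX.RpushQCoh
import Groth.Agent.Lib.AffBC.Basic
import Groth.Prelude.Def_DCoh3

/-! # The derived base change map on acyclic modules -/

set_option autoImplicit false
set_option maxHeartbeats 1000000
set_option linter.style.haveILetI false
universe u

open CategoryTheory CategoryTheory.Limits AlgebraicGeometry HomologicalComplex
open Scheme.Modules (pushforward pullback pushforwardComp pushforwardCongr pullbackPushforwardAdjunction)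

attribute [local instance] HasDerivedCategory.standard

namespace GrothLib.TorBC25

open GrothLib.OX

variable {X Y Z : Scheme.{u}} (n : ℤ)

/-- A module in degree `n`, in the homotopy category. -/
noncomputable abbrev sK (X : Scheme.{u}) : X.Modules ⥤ HomotopyCategory X.Modules (ComplexShape.up ℤ) :=
  single X.Modules (ComplexShape.up ℤ) n ⋙ HomotopyCategory.quotient _ _

/-- A module in degree `n`, in the derived category. -/
noncomputable abbrev sD (X : Scheme.{u}) : X.Modules ⥤ DCoh.D X := sK n X ⋙ DerivedCategory.Qh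

/-- `sD` is the single functor. -/
noncomputable def sDIso (X : Scheme.{u}) : DerivedCategory.singleFunctor X.Modules n ≅ sD n X :=
  DerivedCategory.singleFunctorIsoCompQ X.Modules n ≪≫
    Functor.isoWhiskerLeft _ (DerivedCategory.quotientCompQhIso X.Modules).symm ≪≫ (Functor.associator _ _ _).symm

/-- Modules sit fully faithfully in each degree. -/
noncomputable def sDFF (X : Scheme.{u}) : (sD n X).FullyFaithful :=
  (Functor.FullyFaithful.ofFullyFaithful (DerivedCategory.singleFunctor X.Modules n)).ofIso (sDIso n X)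

variable (f : X ⟶ Y)

/-- Direct image of a module in degree `n`. -/
noncomputable def pushSingleIso (M : X.Modules) :
    (pushCxF f).obj ((single X.Modules (ComplexShape.up ℤ) n).obj M) ≅
      (single Y.Modules (ComplexShape.up ℤ) n).obj ((pushforward f).obj M) :=
  (singleMapHomologicalComplex (pushforward f) (ComplexShape.up ℤ) n).app M

/-- A complex in the derived category, through the homotopy category. -/
noncomputable abbrev qD (X : Scheme.{u}) : CochainComplex X.Modules ℤ ⥤ DCoh.D X :=
  HomotopyCategory.quotient _ _ ⋙ DerivedCategory.Qh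

/-- The comparison from `f_*` to `Rf_*`, normalized. -/
noncomputable def uU (K : CochainComplex X.Modules ℤ) :
    (qD Y).obj ((pushCxF f).obj K) ⟶ (RR f).obj ((qD X).obj K) :=
  pushUnit f K

theorem uU_naturality {K L : CochainComplex X.Modules ℤ} (i : K ⟶ L) :
    (qD Y).map ((pushCxF f).map i) ≫ uU f L = uU f K ≫ (RR f).map ((qD X).map i) :=
  pushUnit_naturality f i

/-- The comparison from `f_*` to `Rf_*` on a module in degree `n`. -/
noncomputable def tau (M : X.Modules) : (sD n Y).obj ((pushforward f).obj M) ⟶ (RR f).obj ((sD n X).obj M) :=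
  (qD Y).map (pushSingleIso n f M).inv ≫ uU f ((single X.Modules (ComplexShape.up ℤ) n).obj M)

theorem tau_naturality {M N : X.Modules} (a : M ⟶ N) :
    (sD n Y).map ((pushforward f).map a) ≫ tau n f N = tau n f M ≫ (RR f).map ((sD n X).map a) := by
  have h1 : (pushCxF f).map ((single X.Modules (ComplexShape.up ℤ) n).map a) =
      (pushSingleIso n f M).hom ≫ (single Y.Modules (ComplexShape.up ℤ) n).map ((pushforward f).map a) ≫
        (pushSingleIso n f N).inv := by
    rw [← Iso.inv_comp_eq]
    exact ((singleMapHomologicalComplex (pushforward f) (ComplexShape.up ℤ) n).inv.naturality a).symm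
  change (qD Y).map ((single Y.Modules (ComplexShape.up ℤ) n).map ((pushforward f).map a)) ≫
      (qD Y).map (pushSingleIso n f N).inv ≫ uU f ((single X.Modules (ComplexShape.up ℤ) n).obj N) =
    ((qD Y).map (pushSingleIso n f M).inv ≫ uU f ((single X.Modules (ComplexShape.up ℤ) n).obj M)) ≫
      (RR f).map ((qD X).map ((single X.Modules (ComplexShape.up ℤ) n).map a))
  rw [Category.assoc, ← uU_naturality, h1]
  simp only [← Category.assoc, ← (qD Y).map_comp, Iso.inv_hom_id, Category.id_comp]

/-- Acyclic quasi-coherent modules compute their derived direct image. -/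
theorem isIso_tau [QuasiCompact f] [QuasiSeparated f] [HasInjectiveResolutions X.Modules] (M : X.Modules)
    (hM : Coh.IsQCoh M) (hac : GrothSS.IsAcyclicObj (pushforward f) M) : IsIso (tau n f M) := by
  have h : IsIso (pushUnit f ((single X.Modules (ComplexShape.up ℤ) n).obj M)) := by
    refine isIso_pushUnit_of_acyclic f _ (fun i => ?_) fun i => ?_
    · by_cases h : i = n
      · subst h; exact isQCoh_of_iso (singleObjXSelf (ComplexShape.up ℤ) i M).symm hM
      · exact isQCoh_of_isZero (isZero_single_obj_X _ _ _ _ h)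
    · intro k
      by_cases h : i = n
      · subst h
        exact (hac k).of_iso (((pushforward f).rightDerived (k + 1)).mapIso (singleObjXSelf (ComplexShape.up ℤ) i M))
      · exact (((pushforward f).rightDerived (k + 1))).map_isZero (isZero_single_obj_X _ _ _ _ h)
  haveI : IsIso (uU f ((single X.Modules (ComplexShape.up ℤ) n).obj M)) := h
  exact IsIso.comp_isIso

/-- The comparison of a composite on one complex. -/
theorem uU_comp (g : Y ⟶ Z) (K : CochainComplex X.Modules ℤ) :
    uU g ((pushCxF f).obj K) ≫ (RR g).map (uU f K) ≫ (RRCompIso f g).hom.app ((qD X).obj K) =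
      (qD Z).map ((NatTrans.mapHomologicalComplex (pushforwardComp f g).hom (ComplexShape.up ℤ)).app K) ≫
        uU (f ≫ g) K := by
  let K' := (HomotopyCategory.quotient X.Modules (ComplexShape.up ℤ)).obj K
  let Fh := (pushforward f).mapHomotopyCategory (ComplexShape.up ℤ)
  let cmp := Functor.mapHomotopyCategoryCompIso (pushforwardComp f g) (ComplexShape.up ℤ)
  let E := DerivedCategory.Qh.obj K'
  let η := (KInj.resAdj X.Modules).unit.app K'
  let w := (DCoh.pushKh g).map ((KInj.resAdj Y.Modules).unit.app (Fh.obj ((KInj.res X.Modules).obj E)))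
  haveI : IsIso w := isIso_pushKh_map_unit f g E
  have hC : (RRCompIso f g).hom.app E = inv w ≫ DerivedCategory.Qh.map (cmp.hom.app ((KInj.res X.Modules).obj E)) :=
    rfl
  have h1 : uU g ((pushCxF f).obj K) ≫ (RR g).map (uU f K) =
      (DCoh.pushKh g).map (Fh.map η) ≫ w := by
    change (DCoh.pushKh g).map ((KInj.resAdj Y.Modules).unit.app (Fh.obj K')) ≫
        (DCoh.pushKh g).map ((KInj.res Y.Modules).map (DerivedCategory.Qh.map (Fh.map η))) = _
    rw [← Functor.map_comp, ← Functor.map_comp]
    exact congrArg _ ((KInj.resAdj Y.Modules).unit.naturality (Fh.map η)).symm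
  refine ((Category.assoc _ _ _).symm.trans ((congrArg₂ (· ≫ ·) h1 hC).trans ?_))
  refine ((Category.assoc _ _ _).trans (congrArg (_ ≫ ·) (IsIso.hom_inv_id_assoc w _))).trans ?_
  refine (DerivedCategory.Qh.map_comp _ _).symm.trans ?_
  refine (congrArg DerivedCategory.Qh.map (cmp.hom.naturality η)).trans ?_
  exact DerivedCategory.Qh.map_comp _ _

theorem cmp_aux {A B C : Type*} [Category A] [Category B] [Category C] {F : A ⥤ B} {G : B ⥤ C} {H : A ⥤ C}
    (c : F ⋙ G ⟶ H) {z : C} {m m' : A} {y : B} (p : z ⟶ G.obj (F.obj m)) (s : y ≅ F.obj m) (t : m ⟶ m') :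
    (p ≫ G.map s.inv) ≫ G.map (s.hom ≫ F.map t) ≫ c.app m' = p ≫ c.app m ≫ H.map t := by
  rw [Category.assoc, ← G.map_comp_assoc, Iso.inv_hom_id_assoc]
  exact congrArg (p ≫ ·) (c.naturality t)

/-- The comparisons compose. -/
theorem tau_comp (g : Y ⟶ Z) (M : X.Modules) :
    tau n g ((pushforward f).obj M) ≫ (RR g).map (tau n f M) ≫ (RRCompIso f g).hom.app ((sD n X).obj M) =
      (sD n Z).map ((pushforwardComp f g).hom.app M) ≫ tau n (f ≫ g) M := by
  let K := (single X.Modules (ComplexShape.up ℤ) n).obj M
  let i := (pushSingleIso n f M).inv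
  let j := (pushSingleIso n g ((pushforward f).obj M)).inv
  let c := (NatTrans.mapHomologicalComplex (pushforwardComp f g).hom (ComplexShape.up ℤ)).app K
  have h3 : j ≫ (pushCxF g).map i ≫ c =
      (single Z.Modules (ComplexShape.up ℤ) n).map ((pushforwardComp f g).hom.app M) ≫ (pushSingleIso n (f ≫ g) M).inv := by
    refine HomologicalComplex.from_single_hom_ext ?_
    simp [i, j, c, K, pushSingleIso, singleMapHomologicalComplex_inv_app_self, HomologicalComplex.single_map_f_self]
    exact cmp_aux (pushforwardComp f g).hom _ (singleObjXSelf (ComplexShape.up ℤ) n ((pushforward f).obj M)) _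
  change ((qD Z).map j ≫ uU g _) ≫ (RR g).map ((qD Y).map i ≫ uU f K) ≫ (RRCompIso f g).hom.app ((qD X).obj K) =
    (qD Z).map ((single Z.Modules (ComplexShape.up ℤ) n).map _) ≫ (qD Z).map _ ≫ uU (f ≫ g) K
  rw [Functor.map_comp]
  simp only [Category.assoc]
  have h4 : ((qD Z).map ((pushCxF g).map i) ≫ uU g ((pushCxF f).obj K)) ≫ (RR g).map (uU f K) ≫
      (RRCompIso f g).hom.app ((qD X).obj K) =
      (uU g _ ≫ (RR g).map ((qD Y).map i)) ≫ (RR g).map (uU f K) ≫ (RRCompIso f g).hom.app ((qD X).obj K) :=
    congrArg (· ≫ _) (uU_naturality g i)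
  rw [← Category.assoc (uU g _) ((RR g).map ((qD Y).map i)), ← h4, Category.assoc, uU_comp f g K]
  simp only [← Category.assoc, ← (qD Z).map_comp]
  refine ((Category.assoc _ _ _).symm.trans (congrArg (· ≫ uU (f ≫ g) K)
    (((qD Z).map_comp _ _).symm.trans (congrArg (qD Z).map ?_))))
  exact (Category.assoc _ _ _).trans h3

/-- The comparison for equal morphisms. -/
theorem tau_congr {g : X ⟶ Y} (h : f = g) (M : X.Modules) :
    tau n f M ≫ (RRCongr h).hom.app ((sD n X).obj M) =
      (sD n Y).map ((pushforwardCongr h).hom.app M) ≫ tau n g M := by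
  subst h
  have : (pushforwardCongr (rfl : f = f)).hom.app M = 𝟙 _ := by ext U; simp
  rw [this, CategoryTheory.Functor.map_id, Category.id_comp, show (RRCongr (rfl : f = f)).hom.app
    ((sD n X).obj M) = 𝟙 _ from rfl, Category.comp_id]

end GrothLib.TorBC25
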