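import Groth.Agent.Lib.TorBC25.Perfect
import Groth.Agent.S1119

/-! # Direct images of pseudo-coherent objects along flat proper morphisms -/

set_option autoImplicit false
set_option maxHeartbeats 1000000
set_option linter.style.haveILetI false
universe u

open CategoryTheory CategoryTheory.Limits AlgebraicGeometry

attribute [local instance] HasDerivedCategory.standard

namespace GrothLib.TorBC25

open GrothLib.OX

variable {X S : Scheme.{u}}

theorem isPseudoCoherentD_RR_affine {A : Type u} [CommRing A] (f : X ⟶ Spec (CommRingCat.of A)) [IsProper f] [Flat f]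
    [LocallyOfFinitePresentation f] {E : DCoh.D X} (hE : ∀ m : ℤ, DCoh.IsPseudoCoherentD m E) (m : ℤ) :
    DCoh.IsPseudoCoherentD m ((RR f).obj E) := by
  haveI : CompactSpace X := QuasiCompact.compactSpace_of_compactSpace f
  haveI : QuasiSeparatedSpace X := quasiSeparatedSpace_of_quasiSeparated f
  haveI : DCoh.HasRpush f := KInj.hasRightDerivedFunctor _
  let O := Coh.structureModule X
  let K : CochainComplex X.Modules ℤ := (HomologicalComplex.single X.Modules (ComplexShape.up ℤ) 0).obj O
  haveI := hasLTensorCx K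
  let i : (DerivedCategory.singleFunctor X.Modules 0).obj O ≅ DCoh.toD X K :=
    (DerivedCategory.singleFunctorIsoCompQ X.Modules 0).app O
  haveI : (DCoh.toD X K).IsLE 0 := DerivedCategory.TStructure.t.isLE_of_iso i 0
  have hK : DCoh.IsQCohD (DCoh.toD X K) := fun j =>
    isQCoh_of_iso ((DerivedCategory.homologyFunctor _ j).mapIso i)
      (DerTrunc.cohIn_single (qcohP X) (Cohom.isQuasicoherent_structureModule X) 0 j)
  have key : ∀ F : DCoh.D X, Nonempty ((DCoh.LTensorCx K).obj F ≅ F) := fun F => by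
    obtain ⟨P, hP, ⟨e⟩⟩ := exists_kflat_rep F
    obtain ⟨v⟩ := ltensorCx_value K P hP
    let u : (DCoh.tensorBi (X := X)).flip.obj O ≅ 𝟭 X.Modules :=
      (tensorBraiding (X := X)).app _ ≪≫ tensorUnitNatIso
    exact ⟨(DCoh.LTensorCx K).mapIso e.symm ≪≫ v ≪≫ DerivedCategory.Q.mapIso ((singleIso P O).symm ≪≫
      (NatIso.mapHomologicalComplex u (ComplexShape.up ℤ)).app P ≪≫
      (Functor.mapHomologicalComplexIdIso X.Modules (ComplexShape.up ℤ)).app P) ≪≫ e⟩
  obtain ⟨eE⟩ := key E
  refine isPseudoCoherentD_of_iso (Groth.Agent.S1119.result A X f K hK 0 (fun F hF k => ?_) E hE m)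
    ((DCoh.Rpush f).mapIso eE ≪≫ (rpushIsoRres f).app E)
  obtain ⟨eF⟩ := key F
  exact isPseudoCoherentD_of_iso (isPseudoCoherentD_of_isPerfect (isPerfect_RR f hF) k)
    ((DCoh.Rpush f).mapIso eF ≪≫ (rpushIsoRres f).app F).symm

/-- **Direct images of pseudo-coherent objects along flat proper morphisms of finite presentation.** -/
theorem isPseudoCoherentD_RR (f : X ⟶ S) [IsProper f] [Flat f] [LocallyOfFinitePresentation f] {E : DCoh.D X}
    (hE : ∀ m : ℤ, DCoh.IsPseudoCoherentD m E) (m : ℤ) : DCoh.IsPseudoCoherentD m ((RR f).obj E) := by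
  refine isPseudoCoherentD_of_local fun s => ?_
  obtain ⟨V, hV, hsV, -⟩ := exists_isAffineOpen_mem_and_subset (x := s) (U := ⊤) trivial
  refine ⟨_, V.ι, inferInstance, by rw [Scheme.Opens.range_ι]; exact hsV, ?_⟩
  refine isPseudoCoherentD_of_iso ?_ ((resDRRBaseChange f V).app E).symm
  let e := hV.isoSpec.hom
  let F := (resD (f ⁻¹ᵁ V).ι).obj E
  have h := isPseudoCoherentD_RR_affine (A := Γ(S, V)) ((f ∣_ V) ≫ e)
    (fun k => isPseudoCoherentD_resD (hE k) (f ⁻¹ᵁ V).ι) m
  exact isPseudoCoherentD_of_iso (isPseudoCoherentD_resD (isPseudoCoherentD_of_iso h ((RRCompIso (f ∣_ V) e).app F).symm) e)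
    (asIso ((resDAdj e).counit.app ((RR (f ∣_ V)).obj F)))

end GrothLib.TorBC25
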