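import Groth.Agent.Lib.TorBC25.Splits
import Groth.Agent.Lib.OX.FlatLocFree

/-! # The splitting near a point -/

set_option autoImplicit false
set_option maxHeartbeats 1000000
set_option linter.style.haveILetI false
universe u

open CategoryTheory CategoryTheory.Limits AlgebraicGeometry

attribute [local instance] HasDerivedCategory.standard

namespace GrothLib.TorBC25

open GrothLib.OX

variable {X S : Scheme.{u}}

theorem isIso_appTop_of_fibre (f : X ⟶ S) {V : S.Opens} (hV : IsAffineOpen V)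
    (h : ∀ s : S, IsIso (f.fiberToSpecResidueField s).appTop) (m : Ideal Γ(S, V)) [m.IsMaximal] :
    IsIso (pullback.snd ((f ∣_ V) ≫ hV.isoSpec.hom) (specHom (Ideal.Quotient.mk m))).appTop := by
  let R : Type u := Γ(S, V)
  let fA : (f ⁻¹ᵁ V).toScheme ⟶ Spec Γ(S, V) := (f ∣_ V) ≫ hV.isoSpec.hom
  let g := specHom (Ideal.Quotient.mk m)
  let p : Spec Γ(S, V) := ⟨m, inferInstance⟩
  let κ : Type u := p.asIdeal.ResidueField
  let a : Spec (CommRingCat.of κ) ⟶ Spec Γ(S, V) := Spec.map (CommRingCat.ofHom (algebraMap R κ))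
  let σ₀ : Spec (CommRingCat.of κ) ⟶ Spec (S.residueField (hV.fromSpec p)) :=
    Spec.map (Scheme.Spec.residueFieldIso Γ(S, V) p).hom ≫ Spec.map (hV.fromSpec.residueFieldMap p)
  haveI : IsIso σ₀ := inferInstance
  have hσ : σ₀ ≫ S.fromSpecResidueField (hV.fromSpec p) = a ≫ hV.fromSpec := by
    simp only [σ₀, Category.assoc, Scheme.Hom.SpecMap_residueFieldMap_fromSpecResidueField]
    rw [← Scheme.Spec.map_residueFieldIso_inv_eq_fromSpecResidueField, ← Category.assoc, ← Category.assoc,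
      ← Spec.map_comp, Iso.inv_hom_id, Spec.map_id, Category.id_comp]
  let c : CommRingCat.of (R ⧸ m) ⟶ CommRingCat.of κ := CommRingCat.ofHom (algebraMap (R ⧸ m) κ)
  haveI : IsIso c := (ConcreteCategory.isIso_iff_bijective c).2 (Ideal.bijective_algebraMap_quotient_residueField m)
  have hc : Spec.map c ≫ g = a := by
    rw [← Spec.map_comp]
    exact congrArg Spec.map (CommRingCat.hom_ext (RingHom.ext fun _ => rfl))
  let σ := inv (Spec.map c) ≫ σ₀
  have hσ' : g ≫ hV.fromSpec = σ ≫ S.fromSpecResidueField (hV.fromSpec p) := by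
    rw [Category.assoc, hσ, IsIso.eq_inv_comp, ← hc, Category.assoc]
  let f' := pullback.snd fA g
  have h1 : IsPullback (f ⁻¹ᵁ V).ι fA f hV.fromSpec := by
    have hiso : IsPullback (𝟙 (f ⁻¹ᵁ V).toScheme) fA (f ∣_ V) hV.isoSpec.inv :=
      IsPullback.of_horiz_isIso ⟨by simp [fA]⟩
    have := hiso.paste_horiz (isPullback_morphismRestrict f V).flip
    rwa [Category.id_comp, hV.isoSpec_inv_ι] at this
  have h2 := (IsPullback.of_hasPullback fA g).paste_horiz h1
  rw [hσ'] at h2
  let F := IsPullback.of_hasPullback f (S.fromSpecResidueField (hV.fromSpec p))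
  let e := F.lift (pullback.fst fA g ≫ (f ⁻¹ᵁ V).ι) (f' ≫ σ) (h2.w.trans (Category.assoc _ _ _).symm)
  have h3 : IsPullback e f' (f.fiberToSpecResidueField (hV.fromSpec p)) σ :=
    IsPullback.of_right (by rw [F.lift_fst]; exact h2) (F.lift_snd _ _ _) F
  haveI : IsIso e := h3.isIso_fst_of_isIso
  have h4 := congrArg Scheme.Hom.appTop h3.w
  rw [Scheme.Hom.comp_appTop, Scheme.Hom.comp_appTop] at h4
  haveI := h (hV.fromSpec p)
  haveI : IsIso σ := IsIso.comp_isIso
  haveI : IsIso e.appTop := inferInstanceAs (IsIso (Scheme.Γ.map e.op))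
  haveI : IsIso σ.appTop := inferInstanceAs (IsIso (Scheme.Γ.map σ.op))
  haveI : IsIso (Scheme.Hom.appTop (f.fiberToSpecResidueField (hV.fromSpec p)) ≫ e.appTop) :=
    @IsIso.comp_isIso _ _ _ _ _ _ _ (h _) ‹IsIso e.appTop›
  exact IsIso.of_isIso_fac_left h4.symm

/-- Restriction along an isomorphism to the base of the splitting. -/
theorem exists_split (f : X ⟶ S) [IsProper f] [Flat f] [LocallyOfFinitePresentation f]
    (h : ∀ s : S, IsIso (f.fiberToSpecResidueField s).appTop) {V : S.Opens} (hV : IsAffineOpen V) :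
    ∃ (P : DCoh.D (V : Scheme.{u})) (b : ℤ), DCoh.IsPerfect P ∧ DCoh.HasTorAmplitudeIn 1 b P ∧
      Nonempty ((RR (f ∣_ V)).obj (DCoh.inD (f ⁻¹ᵁ V).toScheme (Coh.structureModule _)) ≅
        DCoh.inD (V : Scheme.{u}) (Coh.structureModule (V : Scheme.{u})) ⊞ P) := by
  let e := hV.isoSpec.hom
  obtain ⟨P, b, hP, ⟨E, hE, hfl, ⟨eE⟩⟩, ⟨i⟩⟩ := exists_split_affine (A := Γ(S, V)) ((f ∣_ V) ≫ e)
    (fun m hm => isIso_appTop_of_fibre f hV h m)
  haveI : PreservesFiniteBiproducts (resD e) := inferInstance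
  haveI : PreservesBinaryBiproducts (resD e) := preservesBinaryBiproducts_of_preservesBiproducts _
  let iO : (resD e).obj (DCoh.inD (Spec Γ(S, V)) (Coh.structureModule _)) ≅
      DCoh.inD (V : Scheme.{u}) (Coh.structureModule (V : Scheme.{u})) :=
    ((Scheme.Modules.restrictFunctor e).mapDerivedCategorySingleFunctor 0).app _ ≪≫
      (DerivedCategory.singleFunctor _ 0).mapIso
        ((Scheme.Modules.restrictFunctorIsoPullback e).app _ ≪≫ pullUnitIso e)
  refine ⟨(resD e).obj P, b, isPerfect_resD hP e, hasTorAmplitudeIn_of_amp (amp_of_vanishesOutside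
    ⟨(resCx e).obj E, fun n hn => (Scheme.Modules.restrictFunctor e).map_isZero (hE n hn),
      fun n => flat_restrict e (hfl n), ⟨((resDFac e).app E).symm ≪≫ (resD e).mapIso eE⟩⟩),
    ⟨(asIso ((resDAdj e).counit.app _)).symm ≪≫ (resD e).mapIso
      ((RRCompIso (f ∣_ V) e).app _ ≪≫ i) ≪≫ (resD e).mapBiprod _ _ ≪≫ biprod.mapIso iO (Iso.refl _)⟩⟩

end GrothLib.TorBC25
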